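/-
Congruence of square matrices (bilinear forms) up to a scalar, and their similitude groups.
-/
import Mathlib
import Cfsg.Prelude.Def_LieTypeDatum
import Cfsg.Agent.Lib.Classical.AltBasis

set_option autoImplicit false

namespace CfsgLib.Forms

open Matrix

variable {F : Type*} [Field F] {ι κ μ : Type} [Fintype ι] [DecidableEq ι] [Fintype κ] [DecidableEq κ]
  [Fintype μ] [DecidableEq μ]

/-- `B = xᵀ A x` for an invertible (possibly reindexing) `x`. -/
def Congr (A : Matrix ι ι F) (B : Matrix κ κ F) : Prop :=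
  ∃ (x : Matrix ι κ F) (y : Matrix κ ι F), x * y = 1 ∧ y * x = 1 ∧ xᵀ * A * x = B

/-- Congruence up to a non-zero scalar. -/
def FormEquiv (A : Matrix ι ι F) (B : Matrix κ κ F) : Prop := ∃ c : F, c ≠ 0 ∧ Congr A (c • B)

lemma Congr.refl (A : Matrix ι ι F) : Congr A A := ⟨1, 1, by simp, by simp, by simp⟩

lemma Congr.symm {A : Matrix ι ι F} {B : Matrix κ κ F} (h : Congr A B) : Congr B A := by
  obtain ⟨x, y, hxy, hyx, rfl⟩ := h
  refine ⟨y, x, hyx, hxy, ?_⟩
  calc yᵀ * (xᵀ * A * x) * y = (x * y)ᵀ * A * (x * y) := by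
        rw [transpose_mul]; simp only [Matrix.mul_assoc]
    _ = A := by simp [hxy]

lemma Congr.trans {A : Matrix ι ι F} {B : Matrix κ κ F} {C : Matrix μ μ F} (h : Congr A B) (h' : Congr B C) :
    Congr A C := by
  obtain ⟨x, y, hxy, hyx, rfl⟩ := h
  obtain ⟨x', y', hxy', hyx', rfl⟩ := h'
  refine ⟨x * x', y' * y, ?_, ?_, ?_⟩
  · rw [Matrix.mul_assoc, ← Matrix.mul_assoc x', hxy', Matrix.one_mul, hxy]
  · rw [Matrix.mul_assoc, ← Matrix.mul_assoc y, hyx, Matrix.one_mul, hyx']
  · rw [transpose_mul]; simp only [Matrix.mul_assoc]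

lemma Congr.smul {A : Matrix ι ι F} {B : Matrix κ κ F} (h : Congr A B) (a : F) : Congr (a • A) (a • B) := by
  obtain ⟨x, y, hxy, hyx, rfl⟩ := h
  exact ⟨x, y, hxy, hyx, by rw [Matrix.mul_smul, Matrix.smul_mul]⟩

lemma Congr.formEquiv {A : Matrix ι ι F} {B : Matrix κ κ F} (h : Congr A B) : FormEquiv A B :=
  ⟨1, one_ne_zero, by rwa [one_smul]⟩

lemma FormEquiv.refl (A : Matrix ι ι F) : FormEquiv A A := (Congr.refl A).formEquiv

lemma FormEquiv.symm {A : Matrix ι ι F} {B : Matrix κ κ F} (h : FormEquiv A B) : FormEquiv B A := by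
  obtain ⟨c, hc, h⟩ := h
  refine ⟨c⁻¹, inv_ne_zero hc, ?_⟩
  have := (h.smul c⁻¹).symm
  rwa [smul_smul, inv_mul_cancel₀ hc, one_smul] at this

lemma FormEquiv.trans {A : Matrix ι ι F} {B : Matrix κ κ F} {C : Matrix μ μ F} (h : FormEquiv A B)
    (h' : FormEquiv B C) : FormEquiv A C := by
  obtain ⟨c, hc, h⟩ := h
  obtain ⟨d, hd, h'⟩ := h'
  exact ⟨c * d, mul_ne_zero hc hd, by rw [← smul_smul]; exact h.trans (h'.smul c)⟩

lemma formEquiv_smul (A : Matrix ι ι F) {a : F} (ha : a ≠ 0) : FormEquiv A (a • A) :=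
  ⟨a⁻¹, inv_ne_zero ha, by rw [smul_smul, inv_mul_cancel₀ ha, one_smul]; exact Congr.refl A⟩

/-- Reindexing is a congruence. -/
lemma congr_reindex (e : ι ≃ κ) (A : Matrix ι ι F) : Congr A (A.submatrix e.symm e.symm) := by
  refine ⟨(1 : Matrix ι ι F).submatrix id e.symm, (1 : Matrix ι ι F).submatrix e.symm id, ?_, ?_, ?_⟩
  · rw [submatrix_mul_equiv, Matrix.one_mul, submatrix_id_id]
  · rw [← submatrix_mul _ _ e.symm id e.symm Function.bijective_id, Matrix.one_mul,
      submatrix_one_equiv]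
  · ext i j
    simp [Matrix.mul_apply, Matrix.one_apply]

/-- The determinant transforms by a non-zero square. -/
lemma Congr.det {A : Matrix ι ι F} {B : Matrix κ κ F} (h : Congr A B) (e : κ ≃ ι) :
    ∃ t : F, t ≠ 0 ∧ B.det = t ^ 2 * A.det := by
  obtain ⟨x, y, hxy, hyx, rfl⟩ := h
  have hxy' : x.submatrix id e.symm * y.submatrix e.symm id = 1 := by
    rw [submatrix_mul_equiv, hxy, submatrix_id_id]
  refine ⟨(x.submatrix id e.symm).det, fun h0 => ?_, ?_⟩
  · have := congrArg Matrix.det hxy'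
    rw [det_mul, h0, zero_mul, det_one] at this
    exact zero_ne_one this
  · have h1 : (xᵀ * A * x).submatrix e.symm e.symm = (x.submatrix id e.symm)ᵀ * A * (x.submatrix id e.symm) := by
      rw [transpose_submatrix]
      ext i j
      simp [Matrix.mul_apply]
    rw [← det_submatrix_equiv_self e.symm (xᵀ * A * x), h1, det_mul, det_mul, det_transpose]
    ring

lemma Congr.det_ne_zero {A : Matrix ι ι F} {B : Matrix κ κ F} (h : Congr A B) (e : κ ≃ ι) (hA : A.det ≠ 0) :
    B.det ≠ 0 := by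
  obtain ⟨t, ht, hd⟩ := h.det e
  rw [hd]
  exact mul_ne_zero (pow_ne_zero _ ht) hA

/-! ### Similitude groups -/

/-- The similitudes of the bilinear form with matrix `A`. -/
def simBil (A : Matrix ι ι F) : Subgroup (GL ι F) :=
  Cfsg.Geo.similarityGroup (fun u v => u ⬝ᵥ (A *ᵥ v))

omit [DecidableEq ι] in
lemma mulVec_form (A : Matrix ι ι F) (k : Matrix ι ι F) (u v : ι → F) :
    (k *ᵥ u) ⬝ᵥ (A *ᵥ (k *ᵥ v)) = u ⬝ᵥ ((kᵀ * A * k) *ᵥ v) := by
  rw [Matrix.mul_assoc, ← mulVec_mulVec, ← mulVec_mulVec, dotProduct_mulVec u kᵀ, vecMul_transpose]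

lemma form_eq_iff (A B : Matrix ι ι F) : (∀ u v : ι → F, u ⬝ᵥ (A *ᵥ v) = u ⬝ᵥ (B *ᵥ v)) ↔ A = B := by
  refine ⟨fun h => ?_, fun h _ _ => by rw [h]⟩
  ext i j
  simpa using h (Pi.single i 1) (Pi.single j 1)

lemma mem_simBil {A : Matrix ι ι F} {k : GL ι F} :
    k ∈ simBil A ↔ ∃ c : Fˣ, (k : Matrix ι ι F)ᵀ * A * (k : Matrix ι ι F) = (c : F) • A := by
  refine exists_congr fun c => ?_
  rw [← form_eq_iff]
  refine forall₂_congr fun u v => ?_
  dsimp only
  rw [mulVec_form, smul_mulVec, dotProduct_smul, smul_eq_mul]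

/-- Change of basis of invertible matrices. -/
def congrGL (x : Matrix ι κ F) (y : Matrix κ ι F) (hxy : x * y = 1) (hyx : y * x = 1) : GL ι F ≃* GL κ F :=
  Units.mapEquiv
    { toFun := fun u => y * u * x
      invFun := fun v => x * v * y
      left_inv := fun u => by
        simp only [Matrix.mul_assoc, hxy, Matrix.mul_one]
        rw [← Matrix.mul_assoc x, hxy, Matrix.one_mul]
      right_inv := fun v => by
        simp only [Matrix.mul_assoc, hyx, Matrix.mul_one]
        rw [← Matrix.mul_assoc y, hyx, Matrix.one_mul]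
      map_mul' := fun u v => by
        simp only [Matrix.mul_assoc]
        rw [← Matrix.mul_assoc x y, hxy, Matrix.one_mul] }

@[simp] lemma congrGL_val (x : Matrix ι κ F) (y : Matrix κ ι F) (hxy : x * y = 1) (hyx : y * x = 1) (u : GL ι F) :
    ((congrGL x y hxy hyx u : GL κ F) : Matrix κ κ F) = y * (u : Matrix ι ι F) * x := rfl

lemma congrGL_mem_simBil_iff {A : Matrix ι ι F} {B : Matrix κ κ F} {x : Matrix ι κ F} {y : Matrix κ ι F}
    (hxy : x * y = 1) (hyx : y * x = 1) {c : F} (hc : c ≠ 0) (hB : xᵀ * A * x = c • B) (u : GL ι F) :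
    congrGL x y hxy hyx u ∈ simBil B ↔ u ∈ simBil A := by
  rw [mem_simBil, mem_simBil]
  refine exists_congr fun d => ?_
  rw [congrGL_val]
  have hB' : B = c⁻¹ • (xᵀ * A * x) := by rw [hB, smul_smul, inv_mul_cancel₀ hc, one_smul]
  have key : (y * (u : Matrix ι ι F) * x)ᵀ * (xᵀ * A * x) * (y * (u : Matrix ι ι F) * x) =
      xᵀ * ((u : Matrix ι ι F)ᵀ * A * (u : Matrix ι ι F)) * x := by
    calc _ = xᵀ * ((u : Matrix ι ι F)ᵀ * ((x * y)ᵀ * A * (x * y)) * (u : Matrix ι ι F)) * x := by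
          simp only [transpose_mul, Matrix.mul_assoc]
      _ = _ := by simp [hxy]
  rw [hB', Matrix.mul_smul, Matrix.smul_mul, key, smul_comm]
  constructor
  · intro h
    have h2 := congrArg (fun M => yᵀ * M * y) (smul_right_injective _ (inv_ne_zero hc) h)
    simp only [Matrix.mul_smul, Matrix.smul_mul] at h2
    have e : ∀ M : Matrix ι ι F, yᵀ * (xᵀ * M * x) * y = M := fun M => by
      calc yᵀ * (xᵀ * M * x) * y = (x * y)ᵀ * M * (x * y) := by
            rw [transpose_mul]; simp only [Matrix.mul_assoc]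
        _ = M := by simp [hxy]
    rwa [e, e] at h2
  · intro h
    rw [h, Matrix.mul_smul, Matrix.smul_mul]

lemma congrGL_mem_scalars_iff (x : Matrix ι κ F) (y : Matrix κ ι F) (hxy : x * y = 1) (hyx : y * x = 1)
    (u : GL ι F) : congrGL x y hxy hyx u ∈ Cfsg.Geo.scalars κ F ↔ u ∈ Cfsg.Geo.scalars ι F := by
  rw [Cfsg.Geo.mem_scalars_iff, Cfsg.Geo.mem_scalars_iff]
  refine exists_congr fun d => ?_
  rw [congrGL_val]
  constructor
  · intro h
    calc (u : Matrix ι ι F) = x * (y * (u : Matrix ι ι F) * x) * y := by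
          simp only [Matrix.mul_assoc, hxy, Matrix.mul_one]
          rw [← Matrix.mul_assoc, hxy, Matrix.one_mul]
      _ = _ := by simp [h, hxy]
  · intro h
    simp [h, hyx]

/-- Equivalent forms have isomorphic similitude groups modulo scalars. -/
lemma FormEquiv.projQuot_equiv {A : Matrix ι ι F} {B : Matrix κ κ F} (h : FormEquiv A B) :
    Nonempty (Cfsg.projQuot (simBil A) ≃* Cfsg.projQuot (simBil B)) := by
  obtain ⟨c, hc, x, y, hxy, hyx, hB⟩ := h
  have hmap : (simBil A).map (congrGL x y hxy hyx).toMonoidHom = simBil B := by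
    ext v
    rw [Subgroup.mem_map]
    constructor
    · rintro ⟨u, hu, rfl⟩
      exact (congrGL_mem_simBil_iff hxy hyx hc hB u).2 hu
    · intro hv
      refine ⟨(congrGL x y hxy hyx).symm v, ?_, (congrGL x y hxy hyx).apply_symm_apply v⟩
      rw [← congrGL_mem_simBil_iff hxy hyx hc hB, MulEquiv.apply_symm_apply]
      exact hv
  let e : ↥(simBil A) ≃* ↥(simBil B) :=
    ((congrGL x y hxy hyx).subgroupMap (simBil A)).trans (MulEquiv.subgroupCongr hmap)
  refine ⟨QuotientGroup.congr _ _ e ?_⟩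
  ext w
  constructor
  · rintro ⟨u, hu, rfl⟩
    exact Subgroup.mem_subgroupOf.2 ((congrGL_mem_scalars_iff x y hxy hyx _).2 (Subgroup.mem_subgroupOf.1 hu))
  · intro hw
    refine ⟨e.symm w, ?_, e.apply_symm_apply w⟩
    rw [SetLike.mem_coe, Subgroup.mem_subgroupOf, ← congrGL_mem_scalars_iff x y hxy hyx]
    have : congrGL x y hxy hyx (e.symm w : GL ι F) = (w : GL κ F) := congrArg Subtype.val (e.apply_symm_apply w)
    rw [this]
    exact Subgroup.mem_subgroupOf.1 hw

/-- The multiplier of a similitude and its determinant. -/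
lemma det_sq_of_sim {A k : Matrix ι ι F} (hA : A.det ≠ 0) {c : F} (h : kᵀ * A * k = c • A) :
    k.det ^ 2 = c ^ Fintype.card ι := by
  have := congrArg Matrix.det h
  rw [det_mul, det_mul, det_transpose, det_smul] at this
  exact mul_right_cancel₀ hA (by linear_combination this)

end CfsgLib.Forms
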