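/-
Classification of non-degenerate alternating and symmetric matrices over a finite field up to congruence.
-/
import Cfsg.Agent.Lib.KnownSimple.Forms.Congr
import Cfsg.Agent.Lib.Classical.FiniteFieldSq

set_option autoImplicit false

namespace CfsgLib.Forms

open Matrix

variable {F : Type*} [Field F] {ι κ : Type} [Fintype ι] [DecidableEq ι] [Fintype κ] [DecidableEq κ]

lemma congr_of_linearEquiv {A : Matrix ι ι F} {B : Matrix κ κ F} (e : (κ → F) ≃ₗ[F] (ι → F))
    (h : ∀ u v, e u ⬝ᵥ (A *ᵥ e v) = u ⬝ᵥ (B *ᵥ v)) : Congr A B := by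
  refine ⟨LinearMap.toMatrix' e.toLinearMap, LinearMap.toMatrix' e.symm.toLinearMap, ?_, ?_, ?_⟩
  · rw [← LinearMap.toMatrix'_comp]; simp
  · rw [← LinearMap.toMatrix'_comp]; simp
  · rw [← form_eq_iff]
    intro u v
    rw [Matrix.mul_assoc, ← mulVec_mulVec, ← mulVec_mulVec, dotProduct_mulVec u, vecMul_transpose,
      LinearMap.toMatrix'_mulVec, LinearMap.toMatrix'_mulVec]
    exact h u v

lemma congr_of_mul_eq {A B x : Matrix ι ι F} (h : xᵀ * A * x = B) (hB : B.det ≠ 0) : Congr A B := by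
  have hx : IsUnit x.det := isUnit_iff_ne_zero.2 fun h0 => hB (by rw [← h, det_mul, h0, mul_zero])
  exact ⟨x, x⁻¹, mul_nonsing_inv x hx, nonsing_inv_mul x hx, h⟩

/-- An alternating matrix. -/
def IsAltMat (A : Matrix ι ι F) : Prop := Aᵀ = -A ∧ ∀ i, A i i = 0

omit [DecidableEq ι] in
lemma IsAltMat.form_swap {A : Matrix ι ι F} (hA : IsAltMat A) (u v : ι → F) :
    v ⬝ᵥ (A *ᵥ u) = - (u ⬝ᵥ (A *ᵥ v)) := by
  conv_lhs => rw [dotProduct_comm, ← vecMul_transpose, ← dotProduct_mulVec, hA.1, neg_mulVec, dotProduct_neg]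

lemma IsAltMat.form_self {A : Matrix ι ι F} (hA : IsAltMat A) (v : ι → F) : v ⬝ᵥ (A *ᵥ v) = 0 := by
  let f : (ι → F) →+ F :=
    AddMonoidHom.mk' (fun v => v ⬝ᵥ (A *ᵥ v)) fun u w => by
      simp only [mulVec_add, add_dotProduct, dotProduct_add]
      rw [hA.form_swap u w]
      ring
  have hf : ∀ v, f v = v ⬝ᵥ (A *ᵥ v) := fun _ => rfl
  rw [← hf, ← Finset.univ_sum_single v, map_sum]
  refine Finset.sum_eq_zero fun i _ => ?_
  rw [hf]
  simp [hA.2]

lemma IsAltMat.toBilin_isAlt {A : Matrix ι ι F} (hA : IsAltMat A) : (Matrix.toBilin' A).IsAlt := fun v => by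
  rw [Matrix.toBilin'_apply']; exact hA.form_self v

lemma sympForm_def (m : ℕ) (u v : Fin m ⊕ Fin m → F) :
    Cfsg.sympForm m F u v = u ⬝ᵥ (Matrix.J (Fin m) F *ᵥ v) := rfl

lemma isAltMat_J (m : ℕ) : IsAltMat (Matrix.J (Fin m) F) :=
  ⟨Matrix.J_transpose _ _, fun i => by rcases i with i | i <;> simp [Matrix.J]⟩

/-- A non-degenerate alternating matrix is congruent to the standard one. -/
lemma exists_congr_J {A : Matrix ι ι F} (hA : IsAltMat A) (hd : A.det ≠ 0) :
    ∃ m, Fintype.card ι = 2 * m ∧ Congr A (Matrix.J (Fin m) F) := by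
  obtain ⟨m, hm, e, he⟩ := CfsgLib.Classical.exists_symp_equiv (Matrix.toBilin' A) hA.toBilin_isAlt fun v hv => by
    have h : v ᵥ* A = 0 := funext fun i => by
      have := hv (Pi.single i 1)
      rwa [Matrix.toBilin'_apply', dotProduct_mulVec, dotProduct_single_one] at this
    exact Matrix.eq_zero_of_vecMul_eq_zero hd h
  refine ⟨m, by simpa using hm, congr_of_linearEquiv e fun u v => ?_⟩
  rw [← Matrix.toBilin'_apply', he]; rfl

lemma congr_J {A : Matrix ι ι F} (hA : IsAltMat A) (hd : A.det ≠ 0) {m : ℕ} (hm : Fintype.card ι = 2 * m) :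
    Congr A (Matrix.J (Fin m) F) := by
  obtain ⟨m', hm', h⟩ := exists_congr_J hA hd
  obtain rfl : m' = m := by omega
  exact h

/-! ### Symmetric matrices in odd characteristic -/

section Odd

variable [Finite F]

lemma exists_congr_diagonal (h2 : (2 : F) ≠ 0) {A : Matrix ι ι F} (hA : Aᵀ = A) :
    ∃ d : ι → F, Congr A (Matrix.diagonal d) := by
  haveI : Invertible (2 : F) := invertibleOfNonzero h2
  have hS : LinearMap.IsSymm (Matrix.toBilin' A) := ⟨fun u v => by
    rw [Matrix.toBilin'_apply', Matrix.toBilin'_apply']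
    show u ⬝ᵥ (A *ᵥ v) = v ⬝ᵥ (A *ᵥ u)
    conv_rhs => rw [dotProduct_comm, ← vecMul_transpose, ← dotProduct_mulVec, hA]⟩
  obtain ⟨b, hb⟩ := LinearMap.BilinForm.exists_orthogonal_basis hS
  let e : Fin (Module.finrank F (ι → F)) ≃ ι := (finCongr (Module.finrank_pi F)).trans (Fintype.equivFin ι).symm
  let b' := b.reindex e
  refine ⟨fun i => b' i ⬝ᵥ (A *ᵥ b' i), congr_of_linearEquiv b'.equivFun.symm fun u v => ?_⟩
  have hb' : ∀ i j, i ≠ j → b' i ⬝ᵥ (A *ᵥ b' j) = 0 := fun i j h => by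
    rw [← Matrix.toBilin'_apply']
    simp only [b', Module.Basis.reindex_apply]
    exact hb (fun hc => h (e.symm.injective hc))
  rw [Module.Basis.equivFun_symm_apply, Module.Basis.equivFun_symm_apply, mulVec_sum, dotProduct_sum]
  simp only [mulVec_smul, dotProduct_smul, sum_dotProduct, smul_dotProduct, smul_eq_mul]
  conv_rhs => simp only [dotProduct, mulVec_diagonal]
  refine Finset.sum_congr rfl fun i _ => ?_
  rw [Finset.sum_eq_single i (fun j _ hj => by rw [hb' j i hj, mul_zero]) (by simp)]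
  simp only [dotProduct]
  ring

lemma congr_diagonal_step (h2 : (2 : F) ≠ 0) {d : ι → F} (hd : ∀ k, d k ≠ 0) {i j : ι} (hij : i ≠ j) :
    Congr (Matrix.diagonal d) (Matrix.diagonal (Function.update (Function.update d i 1) j (d i * d j))) := by
  obtain ⟨x, y, hxy⟩ := CfsgLib.Classical.exists_mul_sq_add_mul_sq h2 (hd i) (hd j) 1
  refine congr_of_mul_eq (x := Matrix.of fun r c => if c = i then (if r = i then x else if r = j then y else 0)
    else if c = j then (if r = i then -(d j * y) else if r = j then d i * x else 0)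
    else if r = c then 1 else 0) ?_ ?_
  · ext c c'
    rw [Matrix.mul_apply']
    rcases eq_or_ne c i with rfl | hci
    · rw [dotProduct, Fintype.sum_eq_add c j hij]
      · rcases eq_or_ne c' c with rfl | h1
        · simp [hij, hij.symm, Matrix.mul_diagonal, of_apply, transpose_apply, of_apply, transpose_apply]; linear_combination hxy
        rcases eq_or_ne c' j with rfl | h2
        · simp [hij, hij.symm, Matrix.mul_diagonal, of_apply, transpose_apply, diagonal_apply]; ring
        · simp [hij, hij.symm, h1, h2, Ne.symm h1, Ne.symm h2, Matrix.mul_diagonal, of_apply, transpose_apply, diagonal_apply]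
      · intro r hr; simp [hr.1, hr.2, Matrix.mul_diagonal, of_apply, transpose_apply, of_apply, transpose_apply]
    rcases eq_or_ne c j with rfl | hcj
    · rw [dotProduct, Fintype.sum_eq_add i c hij]
      · rcases eq_or_ne c' i with rfl | h1
        · simp [hij, hij.symm, Matrix.mul_diagonal, of_apply, transpose_apply, diagonal_apply]; ring
        rcases eq_or_ne c' c with rfl | h2
        · simp [hij, hij.symm, Matrix.mul_diagonal, of_apply, transpose_apply, diagonal_apply]; linear_combination (d i * d c') * hxy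
        · simp [hij, hij.symm, h1, h2, Ne.symm h1, Ne.symm h2, Matrix.mul_diagonal, of_apply, transpose_apply, diagonal_apply]
      · intro r hr; simp [hr.1, hr.2, hij.symm, Matrix.mul_diagonal, of_apply, transpose_apply, of_apply, transpose_apply]
    rw [dotProduct, Fintype.sum_eq_single c (fun r hr => by simp [hci, hcj, hr, Matrix.mul_diagonal, of_apply, transpose_apply, of_apply, transpose_apply])]
    rcases eq_or_ne c' i with rfl | h1
    · simp [hci, hcj, Matrix.mul_diagonal, of_apply, transpose_apply, diagonal_apply]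
    rcases eq_or_ne c' j with rfl | h2
    · simp [hci, hcj, h1, Matrix.mul_diagonal, of_apply, transpose_apply, diagonal_apply]
    simp [hci, hcj, h1, h2, Matrix.mul_diagonal, of_apply, transpose_apply, diagonal_apply, Function.update_of_ne]
  · rw [det_diagonal, Finset.prod_ne_zero_iff]
    intro k _
    rcases eq_or_ne k j with rfl | hkj
    · simp [hd]
    rcases eq_or_ne k i with rfl | hki
    · simp [hkj]
    simp [hkj, hki, hd]

lemma congr_diag_prod (h2 : (2 : F) ≠ 0) (i₀ : ι) {d : ι → F} (hd : ∀ k, d k ≠ 0) :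
    Congr (Matrix.diagonal d) (Matrix.diagonal (Function.update 1 i₀ (∏ k, d k))) := by
  suffices H : ∀ (s : Finset ι) (d : ι → F), (∀ k, d k ≠ 0) → (∀ k, k ∉ s → k ≠ i₀ → d k = 1) →
      Congr (Matrix.diagonal d) (Matrix.diagonal (Function.update 1 i₀ (∏ k, d k))) from
    H Finset.univ d hd fun k hk => absurd (Finset.mem_univ k) hk
  intro s
  induction s using Finset.induction_on with
  | empty =>
    intro d hd h1
    have : Function.update (1 : ι → F) i₀ (∏ k, d k) = d := by
      rw [Fintype.prod_eq_single i₀ fun k hk => h1 k (Finset.notMem_empty k) hk]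
      funext k
      rcases eq_or_ne k i₀ with rfl | hk
      · simp
      · simp [hk, h1 k (Finset.notMem_empty k) hk]
    rw [this]
    exact Congr.refl _
  | @insert a s has ih =>
    intro d hd h1
    rcases eq_or_ne a i₀ with rfl | ha
    · exact ih d hd fun k hk hk' => h1 k (by simp [hk, hk']) hk'
    set d' := Function.update (Function.update d a 1) i₀ (d a * d i₀) with hd'def
    have hd' : ∀ k, d' k ≠ 0 := fun k => by
      rcases eq_or_ne k i₀ with rfl | hkj
      · simp [d', hd]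
      rcases eq_or_ne k a with rfl | hki
      · simp [d', hkj]
      simp [d', hkj, hki, hd]
    have hp : ∏ k, d' k = ∏ k, d k := by
      rw [← Finset.mul_prod_erase _ _ (Finset.mem_univ i₀),
        ← Finset.mul_prod_erase _ _ (Finset.mem_erase.2 ⟨ha, Finset.mem_univ a⟩),
        ← Finset.mul_prod_erase _ d (Finset.mem_univ i₀),
        ← Finset.mul_prod_erase _ d (Finset.mem_erase.2 ⟨ha, Finset.mem_univ a⟩)]
      rw [Finset.prod_congr rfl (fun k hk => show d' k = d k by
        obtain ⟨hka, hk'⟩ := Finset.mem_erase.1 hk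
        simp [d', hka, (Finset.mem_erase.1 hk').1])]
      simp [d', ha]; ring
    refine (congr_diagonal_step h2 hd ha).trans ?_
    rw [← hd'def, ← hp]
    refine ih d' hd' fun k hk hk' => ?_
    rcases eq_or_ne k a with rfl | hka
    · simp [d', hk']
    · simp [d', hk', hka, h1 k (by simp [hk, hka]) hk']

lemma congr_diag_det (h2 : (2 : F) ≠ 0) (i₀ : ι) {A : Matrix ι ι F} (hA : Aᵀ = A) (hd : A.det ≠ 0) :
    ∃ t : F, t ≠ 0 ∧ Congr A (Matrix.diagonal (Function.update 1 i₀ (t ^ 2 * A.det))) := by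
  obtain ⟨d, h⟩ := exists_congr_diagonal h2 hA
  obtain ⟨t, ht, hdet⟩ := h.det (Equiv.refl ι)
  rw [det_diagonal] at hdet
  have hd' : ∀ k, d k ≠ 0 := fun k hk =>
    mul_ne_zero (pow_ne_zero 2 ht) hd (hdet ▸ Finset.prod_eq_zero (Finset.mem_univ k) hk)
  exact ⟨t, ht, hdet ▸ h.trans (congr_diag_prod h2 i₀ hd')⟩

/-- Symmetric matrices with determinants in the same square class are congruent. -/
lemma congr_of_det (h2 : (2 : F) ≠ 0) {A : Matrix ι ι F} {B : Matrix κ κ F} (hA : Aᵀ = A) (hB : Bᵀ = B)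
    (e : κ ≃ ι) (hdA : A.det ≠ 0) {t : F} (ht : t ≠ 0) (hdet : B.det = t ^ 2 * A.det) : Congr A B := by
  refine Congr.trans ?_ (congr_reindex e B).symm
  set B' := B.submatrix e.symm e.symm
  have hB' : B'ᵀ = B' := by rw [transpose_submatrix, hB]
  have hdet' : B'.det = t ^ 2 * A.det := by rw [det_submatrix_equiv_self, hdet]
  rcases isEmpty_or_nonempty ι with hι | ⟨⟨i₀⟩⟩
  · rw [Subsingleton.elim A B']
    exact Congr.refl _
  obtain ⟨a, ha, hA'⟩ := congr_diag_det h2 i₀ hA hdA
  obtain ⟨b, hb, hB''⟩ := congr_diag_det h2 i₀ hB' (by rw [hdet']; exact mul_ne_zero (pow_ne_zero _ ht) hdA)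
  refine hA'.trans (Congr.trans ?_ hB''.symm)
  refine congr_of_mul_eq (x := Matrix.diagonal (Function.update 1 i₀ (b * t / a))) ?_ ?_
  · rw [diagonal_transpose, diagonal_mul_diagonal, diagonal_mul_diagonal, hdet']
    congr 1
    funext k
    rcases eq_or_ne k i₀ with rfl | hk
    · simp; field_simp
    · simp [hk]
  · rw [det_diagonal, Finset.prod_update_of_mem (Finset.mem_univ _)]
    simp [hb, hdet', ht, hdA]

/-- In odd dimension all symmetric non-degenerate matrices are similar. -/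
lemma formEquiv_of_odd (h2 : (2 : F) ≠ 0) {A : Matrix ι ι F} {B : Matrix κ κ F} (hA : Aᵀ = A) (hB : Bᵀ = B)
    (e : κ ≃ ι) (hdA : A.det ≠ 0) (hdB : B.det ≠ 0) (hodd : Odd (Fintype.card ι)) : FormEquiv A B := by
  obtain ⟨k, hk⟩ := hodd
  refine ⟨A.det * B.det, mul_ne_zero hdA hdB, congr_of_det h2 hA (by rw [transpose_smul, hB]) e hdA
    (mul_ne_zero (pow_ne_zero k (mul_ne_zero hdA hdB)) hdB) ?_⟩
  rw [det_smul, Fintype.card_congr e, hk]
  ring

end Odd

/-! ### Symmetric non-alternating matrices in characteristic two -/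

section CharTwoForms

variable [CharP F 2]

lemma isAltMat_sub_outer {A : Matrix ι ι F} (hA : Aᵀ = A) {s : ι → F} (hs : ∀ i, s i ^ 2 = A i i) :
    IsAltMat (A - vecMulVec s s) := by
  refine ⟨?_, fun i => ?_⟩
  · ext i j
    rw [transpose_apply, Matrix.neg_apply, CharTwo.neg_eq]
    simp only [Matrix.sub_apply, vecMulVec_apply]
    rw [mul_comm (s j), show A j i = A i j from congrFun (congrFun hA i) j]
  · simp [vecMulVec_apply, ← hs, sq]

/-- The standard symmetric non-alternating matrix in odd dimension. -/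
def oddStd (m : ℕ) (F : Type*) [Field F] : Matrix (Unit ⊕ (Fin m ⊕ Fin m)) (Unit ⊕ (Fin m ⊕ Fin m)) F :=
  fromBlocks 1 0 0 (Matrix.J (Fin m) F)

omit [CharP F 2] in
lemma oddStd_form (m : ℕ) (u v : Unit ⊕ (Fin m ⊕ Fin m) → F) :
    u ⬝ᵥ (oddStd m F *ᵥ v) = u (.inl ()) * v (.inl ()) + Cfsg.sympForm m F (u ∘ Sum.inr) (v ∘ Sum.inr) := by
  rw [oddStd, fromBlocks_mulVec]
  simp [dotProduct, Fintype.sum_sum_type, sympForm_def]

variable [Finite F]

lemma exists_diag_sqrt (A : Matrix ι ι F) : ∃ s : ι → F, ∀ i, s i ^ 2 = A i i := by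
  haveI := Fintype.ofFinite F
  choose s hs using fun i => FiniteField.isSquare_of_char_two (ringChar.eq F 2) (A i i)
  exact ⟨s, fun i => by rw [hs i, sq]⟩

/-- A symmetric matrix in odd dimension. -/
lemma congr_oddStd {A : Matrix ι ι F} (hA : Aᵀ = A) (hd : A.det ≠ 0) {m : ℕ}
    (hm : Fintype.card ι = 2 * m + 1) : Congr A (oddStd m F) := by
  obtain ⟨s, hs⟩ := exists_diag_sqrt A
  have halt := isAltMat_sub_outer hA hs
  have hdet : (A - vecMulVec s s).det = 0 := by
    by_contra h
    obtain ⟨k, hk, -⟩ := exists_congr_J halt h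
    omega
  obtain ⟨u', hu'0, hu'⟩ := Matrix.exists_mulVec_eq_zero_iff.2 hdet
  have hAu : ∀ v, (A - vecMulVec s s) *ᵥ v = A *ᵥ v - (s ⬝ᵥ v) • s := fun v => by
    rw [sub_mulVec, vecMulVec_mulVec]
    congr 1
    ext i; simp [mul_comm]
  rw [hAu, sub_eq_zero] at hu'
  have hc : s ⬝ᵥ u' ≠ 0 := fun h => hu'0 (Matrix.eq_zero_of_mulVec_eq_zero hd (by rw [hu', h, zero_smul]))
  set u := (s ⬝ᵥ u')⁻¹ • u' with hudef
  have hsu : s ⬝ᵥ u = 1 := by rw [hudef, dotProduct_smul, smul_eq_mul, inv_mul_cancel₀ hc]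
  have hu : A *ᵥ u = s := by rw [hudef, mulVec_smul, hu', smul_smul, inv_mul_cancel₀ hc, one_smul]
  have hquad : ∀ v, v ⬝ᵥ (A *ᵥ v) = (s ⬝ᵥ v) ^ 2 := fun v => by
    have := halt.form_self v
    rw [hAu, dotProduct_sub, dotProduct_smul, dotProduct_comm v s, sub_eq_zero] at this
    rw [this, smul_eq_mul, sq]
  have hsymm : ∀ v w, v ⬝ᵥ (A *ᵥ w) = w ⬝ᵥ (A *ᵥ v) := fun v w => by
    conv_rhs => rw [dotProduct_comm, ← vecMul_transpose, ← dotProduct_mulVec, hA]
  have huv : ∀ v, u ⬝ᵥ (A *ᵥ v) = s ⬝ᵥ v := fun v => by rw [hsymm, hu, dotProduct_comm]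
  let ℓ : (ι → F) →ₗ[F] F := dotProductBilin F F s
  have hℓ : ∀ v, ℓ v = s ⬝ᵥ v := fun _ => rfl
  let W := LinearMap.ker ℓ
  have hW : ∀ w : W, s ⬝ᵥ (w : ι → F) = 0 := fun w => LinearMap.mem_ker.1 w.2
  let BW : LinearMap.BilinForm F W := (Matrix.toBilin' A).compl₁₂ W.subtype W.subtype
  have hBW : ∀ v w : W, BW v w = (v : ι → F) ⬝ᵥ (A *ᵥ (w : ι → F)) := fun v w => by
    simp [BW, Matrix.toBilin'_apply']
  have hproj : ∀ v, v - (s ⬝ᵥ v) • u ∈ W := fun v => by
    rw [LinearMap.mem_ker, hℓ, dotProduct_sub, dotProduct_smul, hsu, smul_eq_mul, mul_one, sub_self]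
  obtain ⟨k, hk, e, he⟩ := CfsgLib.Classical.exists_symp_equiv BW (fun w => by rw [hBW, hquad, hW]; simp)
    (fun w hw => by
      have h : ∀ v, (w : ι → F) ⬝ᵥ (A *ᵥ v) = 0 := fun v => by
        have := hw ⟨_, hproj v⟩
        rw [hBW] at this
        simp only [mulVec_sub, mulVec_smul, dotProduct_sub, dotProduct_smul, hu] at this
        rw [dotProduct_comm _ s, hW] at this
        simpa using this
      refine Subtype.ext (Matrix.eq_zero_of_vecMul_eq_zero hd (funext fun i => ?_))
      have h1 := h (Pi.single i 1)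
      rwa [dotProduct_mulVec, dotProduct_single_one] at h1)
  have hdim : Module.finrank F W + 1 = Fintype.card ι := by
    have h1 := LinearMap.finrank_range_add_finrank_ker ℓ
    have h2 : LinearMap.range ℓ = ⊤ := LinearMap.range_eq_top.2 fun a => ⟨a • u, by simp [hℓ, hsu]⟩
    rw [h2, finrank_top, Module.finrank_self, Module.finrank_pi] at h1
    change Module.finrank F (LinearMap.ker ℓ) + 1 = _
    omega
  obtain rfl : k = m := by
    have h1 : 2 * k + 1 = Fintype.card ι := by rw [← hdim, ← hk]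
    omega
  refine congr_of_linearEquiv
    { toFun := fun z => z (.inl ()) • u + (e (z ∘ Sum.inr) : ι → F)
      map_add' := fun z z' => by
        simp only [Pi.add_apply, add_smul]
        rw [show (z + z') ∘ Sum.inr = z ∘ Sum.inr + z' ∘ Sum.inr from rfl, map_add, Submodule.coe_add]
        abel
      map_smul' := fun a z => by
        simp only [Pi.smul_apply, smul_eq_mul, RingHom.id_apply, smul_add, smul_smul]
        rw [show (a • z) ∘ Sum.inr = a • (z ∘ Sum.inr) from rfl, map_smul, Submodule.coe_smul]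
      invFun := fun v => Sum.elim (fun _ => s ⬝ᵥ v) (e.symm ⟨_, hproj v⟩)
      left_inv := fun z => by
        have h1 : s ⬝ᵥ (z (.inl ()) • u + (e (z ∘ Sum.inr) : ι → F)) = z (.inl ()) := by
          rw [dotProduct_add, dotProduct_smul, hsu, hW]; simp
        funext i
        rcases i with i | i
        · exact h1
        · show e.symm _ i = z (.inr i)
          rw [show (⟨_, hproj _⟩ : W) = e (z ∘ Sum.inr) from Subtype.ext (by simp only [h1]; simp),
            LinearEquiv.symm_apply_apply]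
          rfl
      right_inv := fun v => by simp } fun z z' => ?_
  show (z (.inl ()) • u + (e (z ∘ Sum.inr) : ι → F)) ⬝ᵥ
    (A *ᵥ (z' (.inl ()) • u + (e (z' ∘ Sum.inr) : ι → F))) = _
  rw [oddStd_form, ← he, hBW]
  simp only [mulVec_add, mulVec_smul, dotProduct_add, add_dotProduct, dotProduct_smul, smul_dotProduct, hu,
    huv, smul_eq_mul]
  rw [dotProduct_comm u s, hsu, hW, dotProduct_comm (e (z ∘ Sum.inr) : ι → F) s, hW]
  ring

/-- A symmetric non-alternating matrix in even dimension. -/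
lemma congr_evenStd {A : Matrix ι ι F} (hA : Aᵀ = A) (hd : A.det ≠ 0) (hna : ∃ i, A i i ≠ 0) {m : ℕ}
    (hm : Fintype.card ι = 2 * m) (t₀ : Fin m ⊕ Fin m → F) (ht₀ : t₀ ≠ 0) :
    Congr A (Matrix.J (Fin m) F + vecMulVec t₀ t₀) := by
  obtain ⟨s, hs⟩ := exists_diag_sqrt A
  have hs0 : s ≠ 0 := by
    obtain ⟨i, hi⟩ := hna
    intro h
    exact hi (by rw [← hs, h]; simp)
  have halt := isAltMat_sub_outer hA hs
  have hdet : (A - vecMulVec s s).det ≠ 0 := by
    intro hdet
    obtain ⟨m', k, b, hac, haa, hcc, hr⟩ := CfsgLib.Classical.exists_alt_basis _ halt.toBilin_isAlt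
    have hrad : ∀ j, A *ᵥ b (.inr j) = (s ⬝ᵥ b (.inr j)) • s := fun j => by
      have h : b (.inr j) ᵥ* (A - vecMulVec s s) = 0 := funext fun i => by
        have h1 := hr j (Pi.single i 1)
        rwa [Matrix.toBilin'_apply', dotProduct_mulVec, dotProduct_single_one] at h1
      rw [← mulVec_transpose, halt.1, neg_mulVec, neg_eq_zero, sub_mulVec, vecMulVec_mulVec, sub_eq_zero] at h
      rw [h]; ext i; simp [mul_comm]
    have hk1 : k ≤ 1 := by
      by_contra hk
      push Not at hk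
      set j₁ : Fin k := ⟨0, by omega⟩
      set j₂ : Fin k := ⟨1, by omega⟩
      have hne : (Sum.inr j₁ : (Fin m' ⊕ Fin m') ⊕ Fin k) ≠ Sum.inr j₂ := by simp [j₁, j₂, Fin.ext_iff]
      have h0 : (s ⬝ᵥ b (.inr j₂)) • b (.inr j₁) - (s ⬝ᵥ b (.inr j₁)) • b (.inr j₂) = 0 :=
        Matrix.eq_zero_of_mulVec_eq_zero hd (by
          rw [mulVec_sub, mulVec_smul, mulVec_smul, hrad, hrad, smul_smul, smul_smul, mul_comm, sub_self])
      have h1 := congrArg (fun v => b.repr v (.inr j₁)) h0
      simp [hne, Ne.symm hne] at h1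
      have h2 := congrArg (fun v => b.repr v (.inr j₂)) h0
      simp [hne, Ne.symm hne] at h2
      have := Matrix.eq_zero_of_mulVec_eq_zero hd (show A *ᵥ b (.inr j₂) = 0 by rw [hrad, h1]; simp)
      exact b.ne_zero _ this
    have hcard : Fintype.card ι = m' + m' + k := by
      have := Module.finrank_eq_card_basis b
      simpa using this
    obtain rfl : k = 0 := by omega
    obtain ⟨v, hv0, hv⟩ := Matrix.exists_mulVec_eq_zero_iff.2 hdet
    refine hv0 ?_
    have hsum : v = (∑ j, b.repr v (.inl (.inl j)) • b (.inl (.inl j))) +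
        (∑ j, b.repr v (.inl (.inr j)) • b (.inl (.inr j))) + 0 := by
      have h1 := b.sum_repr v
      simp only [Fintype.sum_sum_type, Finset.univ_eq_empty, Finset.sum_empty] at h1
      exact h1.symm
    have hall : ∀ w, Matrix.toBilin' (A - vecMulVec s s) w v = 0 := fun w => by
      rw [Matrix.toBilin'_apply', hv, dotProduct_zero]
    have hco := fun i => CfsgLib.Classical.hyperbolic_coeff _ halt.toBilin_isAlt (fun i => b (.inl (.inl i)))
      (fun i => b (.inl (.inr i))) hac haa hcc (fun j => b.repr v (.inl (.inl j)))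
      (fun j => b.repr v (.inl (.inr j))) 0 (by simp) i
    simp only [← hsum, hall] at hco
    rw [hsum]
    simp [fun i => (hco i).1.symm, fun i => neg_eq_zero.1 (hco i).2.symm]
  obtain ⟨x, y, hxy, hyx, hB⟩ := congr_J halt hdet hm
  have ht : xᵀ *ᵥ s ≠ 0 := fun h => hs0 (by
    have := congrArg (fun w => yᵀ *ᵥ w) h
    simpa [mulVec_mulVec, ← transpose_mul, hxy] using this)
  refine Congr.trans (B := Matrix.J (Fin m) F + vecMulVec (xᵀ *ᵥ s) (xᵀ *ᵥ s)) ⟨x, y, hxy, hyx, ?_⟩ ?_
  · rw [← hB, Matrix.mul_sub, Matrix.sub_mul, mul_vecMulVec, vecMulVec_mul, ← mulVec_transpose]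
    abel
  · set t := xᵀ *ᵥ s
    have hJ : ∀ v : Fin m ⊕ Fin m → F, Matrix.J (Fin m) F *ᵥ (Matrix.J (Fin m) F *ᵥ v) = v := fun v => by
      rw [mulVec_mulVec, Matrix.J_squared, neg_mulVec, one_mulVec]
      funext i; simp [CharTwo.neg_eq]
    have hw : ∀ v : Fin m ⊕ Fin m → F, v ≠ 0 → Matrix.J (Fin m) F *ᵥ v ≠ 0 := fun v hv h => hv (by
      rw [← hJ v, h, mulVec_zero])
    obtain ⟨g, -, hg⟩ := CfsgLib.Classical.exists_sp_move (hw t₀ ht₀) (hw t ht)
    have hgJ : (g.1)ᵀ * Matrix.J (Fin m) F * g.1 = Matrix.J (Fin m) F := SymplecticGroup.mem_iff'.1 g.2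
    have hgt : (g.1)ᵀ *ᵥ t = t₀ := by
      rw [← hJ t, ← hg, mulVec_mulVec, mulVec_mulVec, hgJ, hJ]
    refine ⟨g.1, (g⁻¹).1, ?_, ?_, ?_⟩
    · rw [← Submonoid.coe_mul, mul_inv_cancel]; rfl
    · rw [← Submonoid.coe_mul, inv_mul_cancel]; rfl
    · rw [Matrix.mul_add, Matrix.add_mul, hgJ, mul_vecMulVec, vecMulVec_mul, ← mulVec_transpose, hgt]

end CharTwoForms

end CfsgLib.Forms
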