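/-
The standard quadratic and alternating forms and their projective similitude groups.
-/
import Cfsg.Agent.Lib.KnownSimple.Forms.Classify

set_option autoImplicit false

namespace CfsgLib.Forms

open Matrix

variable {F : Type*} [Field F] {ι : Type} [Fintype ι] [DecidableEq ι]

lemma GSp_eq_simBil (m : ℕ) : Cfsg.GSp m F = simBil (Matrix.J (Fin m) F) := rfl

/-- Similitudes of a quadratic form are similitudes of its symmetric matrix. -/
lemma quadSim_eq_simBil (h2 : (2 : F) ≠ 0) {M : Matrix ι ι F} (hM : Mᵀ = M) {Q : (ι → F) → F}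
    (hQ : ∀ v, Q v = v ⬝ᵥ (M *ᵥ v)) : Cfsg.Geo.quadSimilarityGroup (F := F) Q = simBil M := by
  ext k
  rw [mem_simBil]
  show (∃ c : Fˣ, ∀ v, Q ((k : Matrix ι ι F) *ᵥ v) = (c : F) * Q v) ↔ _
  refine exists_congr fun c => ?_
  set N := (k : Matrix ι ι F)ᵀ * M * (k : Matrix ι ι F) - (c : F) • M with hN
  have hdiff : ∀ v, v ⬝ᵥ (N *ᵥ v) = Q ((k : Matrix ι ι F) *ᵥ v) - (c : F) * Q v := fun v => by
    rw [hQ, hQ, mulVec_form, hN, sub_mulVec, dotProduct_sub, smul_mulVec, dotProduct_smul, smul_eq_mul]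
  have hNs : Nᵀ = N := by
    rw [hN, transpose_sub, transpose_smul, transpose_mul, transpose_mul, transpose_transpose, hM, Matrix.mul_assoc]
  constructor
  · intro h
    rw [← sub_eq_zero, ← hN]
    have h0 : ∀ v, v ⬝ᵥ (N *ᵥ v) = 0 := fun v => by rw [hdiff, h, sub_self]
    ext i j
    have h1 := h0 (Pi.single i 1 + Pi.single j 1)
    have hi := h0 (Pi.single i 1)
    have hj := h0 (Pi.single j 1)
    simp only [mulVec_add, dotProduct_add, add_dotProduct, mulVec_single_one, single_one_dotProduct, col_apply] at h1 hi hj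
    rw [hi, hj, show N j i = N i j from congrFun (congrFun hNs i) j, zero_add, add_zero, ← two_mul] at h1
    exact (mul_eq_zero.1 h1).resolve_left h2
  · intro h v
    rw [← sub_eq_zero, ← hdiff, hN, h, sub_self, zero_mulVec, dotProduct_zero]

/-- The matrix of the plus-type form. -/
def Mplus (m : ℕ) (F : Type*) [Field F] : Matrix (Fin m ⊕ Fin m) (Fin m ⊕ Fin m) F :=
  fromBlocks 0 ((2 : F)⁻¹ • 1) ((2 : F)⁻¹ • 1) 0

/-- The matrix of the odd-dimensional form. -/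
def Modd (m : ℕ) (F : Type*) [Field F] : Matrix (Unit ⊕ (Fin m ⊕ Fin m)) (Unit ⊕ (Fin m ⊕ Fin m)) F :=
  fromBlocks 1 0 0 (Mplus m F)

/-- The matrix of the minus-type form. -/
def Mminus (m : ℕ) (a b : F) : Matrix ((Fin m ⊕ Fin m) ⊕ Fin 2) ((Fin m ⊕ Fin m) ⊕ Fin 2) F :=
  fromBlocks (Mplus m F) 0 0 !![1, a / 2; a / 2, b]

lemma Mplus_symm (m : ℕ) : (Mplus m F)ᵀ = Mplus m F := by
  simp [Mplus, fromBlocks_transpose]

lemma Modd_symm (m : ℕ) : (Modd m F)ᵀ = Modd m F := by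
  simp [Modd, fromBlocks_transpose, Mplus_symm]

lemma Mminus_symm (m : ℕ) (a b : F) : (Mminus m a b)ᵀ = Mminus m a b := by
  rw [Mminus, fromBlocks_transpose, Mplus_symm, transpose_zero]
  congr 1
  ext i j; fin_cases i <;> fin_cases j <;> rfl

lemma quadFormPlus_eq (h2 : (2 : F) ≠ 0) (m : ℕ) (v : Fin m ⊕ Fin m → F) :
    Cfsg.quadFormPlus m F v = v ⬝ᵥ (Mplus m F *ᵥ v) := by
  rw [Mplus, fromBlocks_mulVec]
  simp only [dotProduct, Fintype.sum_sum_type, zero_mulVec, smul_mulVec, one_mulVec, zero_add, add_zero,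
    Sum.elim_inl, Sum.elim_inr, Function.comp_apply, Pi.smul_apply, smul_eq_mul, ← Finset.sum_add_distrib,
    Cfsg.quadFormPlus]
  refine Finset.sum_congr rfl fun i _ => ?_
  field_simp
  ring

lemma quadFormOdd_eq (h2 : (2 : F) ≠ 0) (m : ℕ) (v : Unit ⊕ (Fin m ⊕ Fin m) → F) :
    Cfsg.quadFormOdd m F v = v ⬝ᵥ (Modd m F *ᵥ v) := by
  have h := quadFormPlus_eq h2 m (v ∘ Sum.inr)
  simp only [Cfsg.quadFormPlus, Function.comp_apply] at h
  rw [Cfsg.quadFormOdd, h, Modd, fromBlocks_mulVec]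
  simp [dotProduct, Fintype.sum_sum_type, sq]

lemma quadFormMinus_eq (h2 : (2 : F) ≠ 0) (m : ℕ) (a b : F) (v : (Fin m ⊕ Fin m) ⊕ Fin 2 → F) :
    Cfsg.quadFormMinus m F a b v = v ⬝ᵥ (Mminus m a b *ᵥ v) := by
  have h := quadFormPlus_eq h2 m (v ∘ Sum.inl)
  simp only [Cfsg.quadFormPlus, Function.comp_apply] at h
  rw [Cfsg.quadFormMinus, h, Mminus, fromBlocks_mulVec]
  simp [dotProduct, Fintype.sum_sum_type, mulVec, Fin.sum_univ_two]
  field_simp
  ring

lemma Mplus_congr_diag (h2 : (2 : F) ≠ 0) (m : ℕ) :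
    Congr (Mplus m F) (fromBlocks 1 0 0 (-1) : Matrix (Fin m ⊕ Fin m) (Fin m ⊕ Fin m) F) := by
  refine congr_of_mul_eq (x := fromBlocks 1 1 1 (-1)) ?_ ?_
  · have e : (2 : F)⁻¹ • (1 : Matrix (Fin m) (Fin m) F) + (2 : F)⁻¹ • 1 = 1 := by
      rw [← add_smul, ← two_mul, mul_inv_cancel₀ h2, one_smul]
    rw [Mplus, fromBlocks_transpose, fromBlocks_multiply, fromBlocks_multiply]
    simp only [transpose_one, transpose_neg, Matrix.one_mul, Matrix.mul_one, Matrix.mul_zero, Matrix.zero_mul,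
      Matrix.neg_mul, Matrix.mul_neg, zero_add, add_zero, neg_zero, neg_neg]
    congr 1
    · abel
    · abel
    · rw [← neg_add, e]
  · rw [det_fromBlocks_zero₂₁, det_one, one_mul, det_neg, det_one, mul_one]
    exact pow_ne_zero _ (by simp)

lemma det_Mplus (h2 : (2 : F) ≠ 0) (m : ℕ) :
    ∃ t : F, t ≠ 0 ∧ (Mplus m F).det = t ^ 2 * (-1) ^ m := by
  obtain ⟨t, ht, h⟩ := (Mplus_congr_diag (F := F) h2 m).symm.det (Equiv.refl _)
  refine ⟨t, ht, ?_⟩
  rw [h, det_fromBlocks_zero₂₁, det_one, one_mul, det_neg, det_one, mul_one, Fintype.card_fin]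

lemma det_Mplus_ne_zero (h2 : (2 : F) ≠ 0) (m : ℕ) : (Mplus m F).det ≠ 0 := by
  obtain ⟨t, ht, h⟩ := det_Mplus (F := F) h2 m
  rw [h]; exact mul_ne_zero (pow_ne_zero _ ht) (pow_ne_zero _ (by simp))

lemma det_Modd_ne_zero (h2 : (2 : F) ≠ 0) (m : ℕ) : (Modd m F).det ≠ 0 := by
  rw [Modd, det_fromBlocks_zero₂₁, det_one, one_mul]
  exact det_Mplus_ne_zero h2 m

/-- An anisotropic binary form has non-square discriminant. -/
lemma disc_not_isSquare (h2 : (2 : F) ≠ 0) {a b : F}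
    (hab : ∀ z₁ z₂ : F, z₁ ^ 2 + a * z₁ * z₂ + b * z₂ ^ 2 = 0 → z₁ = 0 ∧ z₂ = 0) :
    ¬ IsSquare (a ^ 2 - 4 * b) := by
  rintro ⟨r, hr⟩
  exact one_ne_zero (hab ((r - a) / 2) 1 (by field_simp; linear_combination -hr)).2

lemma det_Mminus (h2 : (2 : F) ≠ 0) (m : ℕ) (a b : F) :
    ∃ t : F, t ≠ 0 ∧ (Mminus m a b).det = t ^ 2 * ((-1) ^ (m + 1) * (a ^ 2 - 4 * b)) := by
  obtain ⟨t, ht, h⟩ := det_Mplus (F := F) h2 m
  refine ⟨t / 2, div_ne_zero ht h2, ?_⟩
  rw [Mminus, det_fromBlocks_zero₂₁, h, det_fin_two]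
  simp only [of_apply, cons_val', cons_val_zero, cons_val_one, cons_val_fin_one, empty_val']
  field_simp
  ring

/-! ### Characteristic two -/

/-- The isometries of a bilinear form. -/
def isoBil (A : Matrix ι ι F) : Subgroup (GL ι F) where
  carrier := {k | (k : Matrix ι ι F)ᵀ * A * (k : Matrix ι ι F) = A}
  one_mem' := by simp
  mul_mem' {a b} ha hb := by
    show _ = _
    calc _ = (b : Matrix ι ι F)ᵀ * ((a : Matrix ι ι F)ᵀ * A * (a : Matrix ι ι F)) * (b : Matrix ι ι F) := by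
          rw [Units.val_mul, transpose_mul]; simp only [Matrix.mul_assoc]
      _ = _ := by rw [ha]; exact hb
  inv_mem' {a} ha := by
    show _ = _
    calc _ = ((a⁻¹ : GL ι F) : Matrix ι ι F)ᵀ * ((a : Matrix ι ι F)ᵀ * A * (a : Matrix ι ι F)) *
          ((a⁻¹ : GL ι F) : Matrix ι ι F) := by rw [ha]
      _ = ((a * a⁻¹ : GL ι F) : Matrix ι ι F)ᵀ * A * ((a * a⁻¹ : GL ι F) : Matrix ι ι F) := by
          rw [Units.val_mul, transpose_mul]; simp only [Matrix.mul_assoc]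
      _ = A := by simp

lemma mem_isoBil {A : Matrix ι ι F} {k : GL ι F} :
    k ∈ isoBil A ↔ (k : Matrix ι ι F)ᵀ * A * (k : Matrix ι ι F) = A := Iff.rfl

lemma form_of_mem_isoBil {A : Matrix ι ι F} {k : GL ι F} (hk : k ∈ isoBil A) (u v : ι → F) :
    ((k : Matrix ι ι F) *ᵥ u) ⬝ᵥ (A *ᵥ ((k : Matrix ι ι F) *ᵥ v)) = u ⬝ᵥ (A *ᵥ v) := by
  rw [mulVec_form, mem_isoBil.1 hk]

/-- A quotient by the scalars computed on normalised elements. -/
lemma projQuot_equiv_of_normal {H K : Subgroup (GL ι F)} (hKH : K ≤ H)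
    (hnorm : ∀ h ∈ H, ∃ a : Fˣ, GeneralLinearGroup.scalar ι a * h ∈ K)
    (hone : ∀ a : Fˣ, GeneralLinearGroup.scalar ι a ∈ K → a = 1) :
    Nonempty (Cfsg.projQuot H ≃* ↥K) := by
  haveI : (Cfsg.Geo.scalars ι F).subgroupOf H |>.Normal := inferInstance
  let Φ : ↥K →* Cfsg.projQuot H := (QuotientGroup.mk' _).comp (Subgroup.inclusion hKH)
  have hinj : Function.Injective Φ := by
    rw [← MonoidHom.ker_eq_bot_iff, eq_bot_iff]
    intro k hk
    rw [MonoidHom.mem_ker, MonoidHom.comp_apply, QuotientGroup.mk'_apply, QuotientGroup.eq_one_iff] at hk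
    obtain ⟨a, ha⟩ := Subgroup.mem_subgroupOf.1 hk
    have hk' : GeneralLinearGroup.scalar ι a = (k : GL ι F) := ha
    have := hone a (hk' ▸ k.2)
    rw [this, map_one] at hk'
    exact Subgroup.mem_bot.2 (Subtype.ext hk'.symm)
  have hsurj : Function.Surjective Φ := by
    intro q
    obtain ⟨⟨h, hh⟩, rfl⟩ := QuotientGroup.mk'_surjective _ q
    obtain ⟨a, ha⟩ := hnorm h hh
    refine ⟨⟨_, ha⟩, ?_⟩
    rw [MonoidHom.comp_apply, QuotientGroup.mk'_apply, QuotientGroup.mk'_apply, QuotientGroup.eq]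
    refine Subgroup.mem_subgroupOf.2 ⟨a⁻¹, ?_⟩
    show GeneralLinearGroup.scalar ι a⁻¹ = (GeneralLinearGroup.scalar ι a * h)⁻¹ * h
    rw [_root_.mul_inv_rev, map_inv]
    have hc : Commute (GeneralLinearGroup.scalar ι a) h := by
      refine Units.ext ?_
      rw [Units.val_mul, Units.val_mul]
      exact (Matrix.scalar_commute (a : F) (fun _ => Commute.all _ _) _).eq
    rw [← hc.inv_inv.eq, inv_mul_cancel_right]
  exact ⟨(MulEquiv.ofBijective Φ ⟨hinj, hsurj⟩).symm⟩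

section CharTwoModels

variable [CharP F 2] [Finite F]

lemma exists_sqrt (c : F) : ∃ r : F, r ^ 2 = c := by
  haveI := Fintype.ofFinite F
  obtain ⟨r, hr⟩ := FiniteField.isSquare_of_char_two (ringChar.eq F 2) c
  exact ⟨r, by rw [hr, sq]⟩

omit [Finite F] in
lemma eq_one_of_sq {a : F} (h : a ^ 2 = 1) : a = 1 := by
  rcases sq_eq_one_iff.1 h with h | h
  · exact h
  · rw [h, CharTwo.neg_eq]

omit [CharP F 2] [Finite F] in
lemma scalar_form (A : Matrix ι ι F) (a : Fˣ) (k : GL ι F) :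
    ((GeneralLinearGroup.scalar ι a * k : GL ι F) : Matrix ι ι F)ᵀ * A * ((GeneralLinearGroup.scalar ι a * k : GL ι F) : Matrix ι ι F)
      = ((a : F) ^ 2) • ((k : Matrix ι ι F)ᵀ * A * (k : Matrix ι ι F)) := by
  have : ((GeneralLinearGroup.scalar ι a * k : GL ι F) : Matrix ι ι F) = (a : F) • (k : Matrix ι ι F) := by
    rw [Units.val_mul]; simp [Matrix.smul_eq_diagonal_mul]
  rw [this, transpose_smul, Matrix.smul_mul, Matrix.smul_mul, Matrix.mul_smul, smul_smul, sq]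

/-- In characteristic two the projective similitudes are the isometries. -/
lemma projQuot_simBil_equiv_isoBil {A : Matrix ι ι F} (hA : A ≠ 0) :
    Nonempty (Cfsg.projQuot (simBil A) ≃* ↥(isoBil A)) := by
  refine projQuot_equiv_of_normal (fun k hk => mem_simBil.2 ⟨1, by rw [mem_isoBil.1 hk, Units.val_one, one_smul]⟩) ?_ ?_
  · intro h hh
    obtain ⟨c, hc⟩ := mem_simBil.1 hh
    obtain ⟨r, hr⟩ := exists_sqrt ((c : F)⁻¹)
    have hr0 : r ≠ 0 := fun h0 => inv_ne_zero c.ne_zero (by rw [← hr, h0]; simp)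
    refine ⟨Units.mk0 r hr0, ?_⟩
    rw [mem_isoBil, scalar_form, hc, Units.val_mk0, hr, smul_smul, inv_mul_cancel₀ c.ne_zero, one_smul]
  · intro a ha
    rw [mem_isoBil, show GeneralLinearGroup.scalar ι a = GeneralLinearGroup.scalar ι a * 1 from (mul_one _).symm,
      scalar_form, Units.val_one, transpose_one, Matrix.one_mul, Matrix.mul_one] at ha
    have : ((a : F) ^ 2 - 1) • A = 0 := by rw [sub_smul, one_smul, ha, sub_self]
    exact Units.ext (eq_one_of_sq (sub_eq_zero.1 ((smul_eq_zero.1 this).resolve_right hA)))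

/-- A symplectic matrix as an invertible matrix. -/
def spGL {m : ℕ} : ↥(symplecticGroup (Fin m) F) →* GL (Fin m ⊕ Fin m) F :=
  (symplecticGroup (Fin m) F).subtype.toHomUnits

omit [CharP F 2] [Finite F] in
lemma spGL_val {m : ℕ} (A : ↥(symplecticGroup (Fin m) F)) :
    (spGL A : Matrix (Fin m ⊕ Fin m) (Fin m ⊕ Fin m) F) = A.1 := rfl

/-- Block extension by one. -/
def extOne {m : ℕ} : ↥(symplecticGroup (Fin m) F) →* Matrix (Unit ⊕ (Fin m ⊕ Fin m)) (Unit ⊕ (Fin m ⊕ Fin m)) F where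
  toFun A := fromBlocks 1 0 0 A.1
  map_one' := fromBlocks_one
  map_mul' A B := by rw [fromBlocks_multiply]; simp

/-- The isometries of the odd standard symmetric form are the symplectic group. -/
lemma isoBil_oddStd_equiv (m : ℕ) :
    Nonempty (↥(isoBil (oddStd m F)) ≃* ↥(symplecticGroup (Fin m) F)) := by
  have hmem : ∀ A : ↥(symplecticGroup (Fin m) F), (extOne (F := F)).toHomUnits A ∈ isoBil (oddStd m F) := fun A => by
    rw [mem_isoBil]
    show (fromBlocks 1 0 0 A.1)ᵀ * oddStd m F * fromBlocks 1 0 0 A.1 = _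
    rw [oddStd, fromBlocks_transpose, fromBlocks_multiply, fromBlocks_multiply]
    simp [SymplecticGroup.mem_iff'.1 A.2]
  let Φ := ((extOne (F := F) (m := m)).toHomUnits).codRestrict _ hmem
  have hinj : Function.Injective Φ := fun A B h => by
    have h1 : fromBlocks (1 : Matrix Unit Unit F) 0 0 A.1 = fromBlocks 1 0 0 B.1 :=
      congrArg Units.val (congrArg Subtype.val h)
    exact Subtype.ext (fromBlocks_inj.1 h1).2.2.2
  have hsurj : Function.Surjective Φ := by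
    rintro ⟨k, hk⟩
    have hform := form_of_mem_isoBil hk
    simp only [oddStd_form] at hform
    set K := (k : Matrix (Unit ⊕ (Fin m ⊕ Fin m)) (Unit ⊕ (Fin m ⊕ Fin m)) F) with hK
    have h0 : ∀ v, (K *ᵥ v) (.inl ()) = v (.inl ()) := fun v => by
      have := hform v v
      rw [CfsgLib.Classical.sympForm_self, CfsgLib.Classical.sympForm_self, add_zero, add_zero] at this
      have h' : ((K *ᵥ v) (.inl ()) - v (.inl ())) ^ 2 = 0 := by
        rw [CharTwo.sub_eq_add, CharTwo.add_sq, sq, sq, this, CharTwo.add_self_eq_zero]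
      exact sub_eq_zero.1 (pow_eq_zero_iff (n := 2) (by norm_num) |>.1 h')
    set β : Fin m ⊕ Fin m → F := fun i => K (.inr i) (.inl ()) with hβ
    have hβ0 : β = 0 := by
      refine CfsgLib.Classical.sympForm_nondeg fun w => ?_
      set v := ((k⁻¹ : GL (Unit ⊕ (Fin m ⊕ Fin m)) F) : Matrix (Unit ⊕ (Fin m ⊕ Fin m)) (Unit ⊕ (Fin m ⊕ Fin m)) F) *ᵥ Sum.elim (fun _ => 0) w
      have hv : K *ᵥ v = Sum.elim (fun _ => 0) w := by
        rw [mulVec_mulVec, hK, ← Units.val_mul, mul_inv_cancel, Units.val_one, one_mulVec]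
      have := hform (Pi.single (.inl ()) 1) v
      rw [← h0 v, hv] at this
      simp only [mulVec_single_one] at this
      simpa [Function.comp_def, CfsgLib.Classical.sympForm_eq] using this
    set A := K.toBlocks₂₂
    have hKb : K = fromBlocks 1 0 0 A := by
      rw [← fromBlocks_toBlocks K]
      congr 1
      · ext ⟨⟩ ⟨⟩
        simpa [mulVec_single_one, toBlocks₁₁] using h0 (Pi.single (.inl ()) 1)
      · ext ⟨⟩ j
        simpa [mulVec_single_one, toBlocks₁₂] using h0 (Pi.single (.inr j) 1)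
      · ext i ⟨⟩
        exact congrFun hβ0 i
    have hA : A ∈ symplecticGroup (Fin m) F := SymplecticGroup.mem_iff'.2 (by
      have := mem_isoBil.1 hk
      rw [← hK, hKb, oddStd, fromBlocks_transpose, fromBlocks_multiply, fromBlocks_multiply] at this
      simpa using (fromBlocks_inj.1 this).2.2.2)
    exact ⟨⟨A, hA⟩, Subtype.ext (Units.ext hKb.symm)⟩
  exact ⟨(MulEquiv.ofBijective Φ ⟨hinj, hsurj⟩).symm⟩

/-- The quadratic part `Σ xᵢ yᵢ`. -/
abbrev qPlus (m : ℕ) (w : Fin m ⊕ Fin m → F) : F := Cfsg.quadFormPlus m F w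

omit [Finite F] in
lemma qPlus_add (m : ℕ) (u w : Fin m ⊕ Fin m → F) :
    qPlus m (u + w) = qPlus m u + qPlus m w + Cfsg.sympForm m F u w := by
  simp only [qPlus, Cfsg.quadFormPlus, CfsgLib.Classical.sympForm_eq, CharTwo.sub_eq_add, Pi.add_apply,
    ← Finset.sum_add_distrib]
  exact Finset.sum_congr rfl fun i _ => by ring

/-- The isometry group of the odd quadratic form as a subgroup of `GL`. -/
def isoQuad (m : ℕ) : Subgroup (GL (Unit ⊕ (Fin m ⊕ Fin m)) F) := Cfsg.isometryGroup F (Cfsg.quadFormOdd m F)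

omit [CharP F 2] [Finite F] in
lemma mem_isoQuad {m : ℕ} {k : GL (Unit ⊕ (Fin m ⊕ Fin m)) F} :
    k ∈ isoQuad m ↔ ∀ v, Cfsg.quadFormOdd m F ((k : Matrix (Unit ⊕ (Fin m ⊕ Fin m)) (Unit ⊕ (Fin m ⊕ Fin m)) F) *ᵥ v) = Cfsg.quadFormOdd m F v :=
  ⟨fun h v => h v v, fun h u _ => h u⟩

omit [CharP F 2] [Finite F] in
lemma quadFormOdd_split (m : ℕ) (v : Unit ⊕ (Fin m ⊕ Fin m) → F) :
    Cfsg.quadFormOdd m F v = v (.inl ()) ^ 2 + qPlus m (v ∘ Sum.inr) := rfl

/-- Isometries of the odd quadratic form in characteristic two. -/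
lemma isoQuad_equiv (m : ℕ) : Nonempty (↥(isoQuad (F := F) m) ≃* ↥(symplecticGroup (Fin m) F)) := by
  have hcol : ∀ k ∈ isoQuad (F := F) m, ∀ i, (k : Matrix (Unit ⊕ (Fin m ⊕ Fin m)) (Unit ⊕ (Fin m ⊕ Fin m)) F) (.inr i) (.inl ()) = 0 := by
    intro k hk
    set K := (k : Matrix (Unit ⊕ (Fin m ⊕ Fin m)) (Unit ⊕ (Fin m ⊕ Fin m)) F)
    have hQ := mem_isoQuad.1 hk
    have hβ : (fun i => K (.inr i) (.inl ())) = 0 := by
      refine CfsgLib.Classical.sympForm_nondeg fun w => ?_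
      set v := ((k⁻¹ : GL (Unit ⊕ (Fin m ⊕ Fin m)) F) : Matrix (Unit ⊕ (Fin m ⊕ Fin m)) (Unit ⊕ (Fin m ⊕ Fin m)) F) *ᵥ Sum.elim (fun _ => 0) w with hvdef
      have hv : K *ᵥ v = Sum.elim (fun _ => 0) w := by
        rw [hvdef, mulVec_mulVec, ← Units.val_mul, mul_inv_cancel, Units.val_one, one_mulVec]
      have e1 := hQ (Pi.single (.inl ()) 1)
      have e2 := hQ v
      have e3 := hQ (Pi.single (.inl ()) 1 + v)
      rw [mulVec_add, mulVec_single_one, hv] at e3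
      rw [mulVec_single_one] at e1
      rw [hv] at e2
      simp only [quadFormOdd_split] at e1 e2 e3
      rw [show (K.col (.inl ()) + Sum.elim (fun _ => 0) w) ∘ Sum.inr = (fun i => K (.inr i) (.inl ())) + w from rfl,
        show (Pi.single (.inl ()) 1 + v : Unit ⊕ (Fin m ⊕ Fin m) → F) ∘ Sum.inr = v ∘ Sum.inr by
          funext i; simp, qPlus_add] at e3
      simp only [Function.comp_def, col_apply, Pi.add_apply, Pi.single_eq_same, Sum.elim_inl, Sum.elim_inr,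
        CharTwo.add_sq, ne_eq, reduceCtorEq, not_false_eq_true, Pi.single_eq_of_ne] at e1 e2 e3
      have hz : qPlus m (fun _ : Fin m ⊕ Fin m => (0 : F)) = 0 := by simp [qPlus, Cfsg.quadFormPlus]
      rw [hz] at e1
      linear_combination e3 - e1 - e2
    exact fun i => congrFun hβ i
  have hsp : ∀ k ∈ isoQuad (F := F) m, (k : Matrix (Unit ⊕ (Fin m ⊕ Fin m)) (Unit ⊕ (Fin m ⊕ Fin m)) F).toBlocks₂₂ ∈ symplecticGroup (Fin m) F := by
    intro k hk
    rw [CfsgLib.Classical.mem_sp_iff]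
    intro u w
    set K := (k : Matrix (Unit ⊕ (Fin m ⊕ Fin m)) (Unit ⊕ (Fin m ⊕ Fin m)) F)
    have hQ := mem_isoQuad.1 hk
    have hj : ∀ z : Fin m ⊕ Fin m → F, (K *ᵥ Sum.elim (fun _ => 0) z) ∘ Sum.inr = K.toBlocks₂₂ *ᵥ z := fun z => by
      funext i; simp [mulVec, dotProduct, Fintype.sum_sum_type, toBlocks₂₂]
    have e1 := hQ (Sum.elim (fun _ => 0) u)
    have e2 := hQ (Sum.elim (fun _ => 0) w)
    have e3 := hQ (Sum.elim (fun _ => 0) u + Sum.elim (fun _ => 0) w)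
    rw [mulVec_add] at e3
    simp only [quadFormOdd_split, hj, Pi.add_apply, CharTwo.add_sq, Sum.elim_inl] at e1 e2 e3
    rw [show ∀ x y : Unit ⊕ (Fin m ⊕ Fin m) → F, (x + y) ∘ Sum.inr = x ∘ Sum.inr + y ∘ Sum.inr from fun _ _ => rfl,
      show ∀ x y : Unit ⊕ (Fin m ⊕ Fin m) → F, (x + y) ∘ Sum.inr = x ∘ Sum.inr + y ∘ Sum.inr from fun _ _ => rfl,
      hj, hj, qPlus_add, Sum.elim_comp_inr, Sum.elim_comp_inr, qPlus_add] at e3
    simp only [Sum.elim_comp_inr] at e1 e2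
    change _ + qPlus m ((K *ᵥ Sum.elim (fun _ => 0) u) ∘ Sum.inr) = _ at e1
    change _ + qPlus m ((K *ᵥ Sum.elim (fun _ => 0) w) ∘ Sum.inr) = _ at e2
    rw [hj] at e1 e2
    linear_combination e3 - e1 - e2
  let Φ : ↥(isoQuad (F := F) m) →* ↥(symplecticGroup (Fin m) F) :=
    { toFun := fun k => ⟨_, hsp k.1 k.2⟩
      map_one' := Subtype.ext (by ext i j; simp [toBlocks₂₂, one_apply])
      map_mul' := fun k l => Subtype.ext (by
        ext i j
        simp [toBlocks₂₂, mul_apply, Fintype.sum_sum_type, hcol k.1 k.2]) }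
  have hinj : Function.Injective Φ := by
    rw [← MonoidHom.ker_eq_bot_iff, eq_bot_iff]
    intro k hk
    have hA : (k.1 : Matrix (Unit ⊕ (Fin m ⊕ Fin m)) (Unit ⊕ (Fin m ⊕ Fin m)) F).toBlocks₂₂ = 1 := congrArg Subtype.val (MonoidHom.mem_ker.1 hk)
    have hQ := mem_isoQuad.1 k.2
    refine Subgroup.mem_bot.2 (Subtype.ext (Units.ext ?_))
    set K := (k.1 : Matrix (Unit ⊕ (Fin m ⊕ Fin m)) (Unit ⊕ (Fin m ⊕ Fin m)) F)
    show K = 1
    ext (⟨⟩ | i) (⟨⟩ | j)
    · have := hQ (Pi.single (.inl ()) 1)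
      simp [quadFormOdd_split, Function.comp_def, hcol k.1 k.2, K, qPlus, Cfsg.quadFormPlus] at this
      rcases this with h | h
      · simpa [K] using h
      · simpa [K, CharTwo.neg_eq] using h
    · have := hQ (Pi.single (.inr j) 1)
      have h1 : (K *ᵥ Pi.single (Sum.inr j) 1) ∘ Sum.inr = (Pi.single (Sum.inr j) (1 : F) : Unit ⊕ (Fin m ⊕ Fin m) → F) ∘ Sum.inr := by
        funext i
        have := congrFun (congrFun hA i) j
        simp only [Function.comp_apply, mulVec_single_one, col_apply]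
        simpa [toBlocks₂₂, one_apply, Pi.single_apply] using this
      rw [quadFormOdd_split, quadFormOdd_split, h1] at this
      simpa [mulVec_single_one] using this
    · simpa using hcol k.1 k.2 i
    · simpa [toBlocks₂₂, one_apply] using congrFun (congrFun hA i) j
  have hsurj : Function.Surjective Φ := by
    rintro ⟨A, hA⟩
    let q : (Fin m ⊕ Fin m → F) →+ F := AddMonoidHom.mk' (fun w => qPlus m (A *ᵥ w) + qPlus m w) fun u w => by
      simp only [mulVec_add, qPlus_add, CfsgLib.Classical.sp_form ⟨A, hA⟩]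
      linear_combination (CharTwo.add_self_eq_zero (Cfsg.sympForm m F u w))
    have hq : ∀ (a : F) w, q (a • w) = a ^ 2 * q w := fun a w => by
      have hs : ∀ z : Fin m ⊕ Fin m → F, qPlus m (a • z) = a ^ 2 * qPlus m z := fun z => by
        simp only [qPlus, Cfsg.quadFormPlus, Pi.smul_apply, smul_eq_mul, Finset.mul_sum]
        exact Finset.sum_congr rfl fun i _ => by ring
      show qPlus m (A *ᵥ (a • w)) + qPlus m (a • w) = a ^ 2 * (qPlus m (A *ᵥ w) + qPlus m w)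
      rw [mulVec_smul, hs, hs, mul_add]
    choose α hα using fun j => exists_sqrt (q (Pi.single j 1))
    let M : Matrix (Unit ⊕ (Fin m ⊕ Fin m)) (Unit ⊕ (Fin m ⊕ Fin m)) F := fromBlocks 1 (of fun _ j => α j) 0 A
    have hdet : M.det ≠ 0 := by
      rw [det_fromBlocks_zero₂₁, det_one, one_mul]
      exact isUnit_iff_ne_zero.1 (SymplecticGroup.symplectic_det hA)
    refine ⟨⟨GeneralLinearGroup.mkOfDetNeZero M hdet, mem_isoQuad.2 fun v => ?_⟩, Subtype.ext ?_⟩
    · show Cfsg.quadFormOdd m F (M *ᵥ v) = _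
      have hsum : (∑ j, α j * v (.inr j)) ^ 2 = q (v ∘ Sum.inr) := by
        conv_rhs => rw [← Finset.univ_sum_single (v ∘ Sum.inr), map_sum]
        rw [CharTwo.sum_sq]
        refine Finset.sum_congr rfl fun j _ => ?_
        rw [show (Pi.single j ((v ∘ Sum.inr) j) : Fin m ⊕ Fin m → F) = v (.inr j) • Pi.single j 1 by
          rw [← Pi.single_smul', smul_eq_mul, mul_one]; rfl, hq, ← hα]
        ring
      simp only [quadFormOdd_split, M, fromBlocks_mulVec, Sum.elim_comp_inr, Sum.elim_inl, Pi.add_apply,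
        zero_mulVec, zero_add, one_mulVec, Function.comp_apply, CharTwo.add_sq]
      rw [show ((of fun (_ : Unit) j => α j) *ᵥ (v ∘ Sum.inr)) () = ∑ j, α j * v (.inr j) from rfl, hsum]
      show v (.inl ()) ^ 2 + (qPlus m (A *ᵥ (v ∘ Sum.inr)) + qPlus m (v ∘ Sum.inr)) + qPlus m (A *ᵥ (v ∘ Sum.inr)) = _
      linear_combination (CharTwo.add_self_eq_zero (qPlus m (A *ᵥ (v ∘ Sum.inr))))
    · show M.toBlocks₂₂ = A
      exact toBlocks_fromBlocks₂₂ _ _ _ _
  exact ⟨MulEquiv.ofBijective Φ ⟨hinj, hsurj⟩⟩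

/-- `PGO` of the odd form in characteristic two. -/
lemma pgoOdd_equiv (m : ℕ) :
    Nonempty (Cfsg.PGO F (Cfsg.quadFormOdd m F) ≃* ↥(symplecticGroup (Fin m) F)) := by
  obtain ⟨e⟩ := isoQuad_equiv (F := F) m
  have hsc : ∀ (a : Fˣ) (k : GL (Unit ⊕ (Fin m ⊕ Fin m)) F) (v : Unit ⊕ (Fin m ⊕ Fin m) → F),
      Cfsg.quadFormOdd m F (((GeneralLinearGroup.scalar (Unit ⊕ (Fin m ⊕ Fin m)) a * k : GL (Unit ⊕ (Fin m ⊕ Fin m)) F) : Matrix (Unit ⊕ (Fin m ⊕ Fin m)) (Unit ⊕ (Fin m ⊕ Fin m)) F) *ᵥ v) =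
        (a : F) ^ 2 * Cfsg.quadFormOdd m F ((k : Matrix (Unit ⊕ (Fin m ⊕ Fin m)) (Unit ⊕ (Fin m ⊕ Fin m)) F) *ᵥ v) := fun a k v => by
    have : ((GeneralLinearGroup.scalar (Unit ⊕ (Fin m ⊕ Fin m)) a * k : GL (Unit ⊕ (Fin m ⊕ Fin m)) F) : Matrix (Unit ⊕ (Fin m ⊕ Fin m)) (Unit ⊕ (Fin m ⊕ Fin m)) F) *ᵥ v = (a : F) • ((k : Matrix (Unit ⊕ (Fin m ⊕ Fin m)) (Unit ⊕ (Fin m ⊕ Fin m)) F) *ᵥ v) := by
      rw [Units.val_mul, ← mulVec_mulVec]; funext i; simp [mulVec_diagonal]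
    rw [this]
    simp only [Cfsg.quadFormOdd, Pi.smul_apply, smul_eq_mul, mul_add, Finset.mul_sum]
    congr 1
    · ring
    · exact Finset.sum_congr rfl fun i _ => by ring
  obtain ⟨e'⟩ := projQuot_equiv_of_normal (H := Cfsg.Geo.quadSimilarityGroup (F := F) (Cfsg.quadFormOdd m F))
    (K := isoQuad m) (fun k hk => ⟨1, fun v => by rw [mem_isoQuad.1 hk, Units.val_one, one_mul]⟩)
    (fun h ⟨c, hc⟩ => by
      obtain ⟨r, hr⟩ := exists_sqrt ((c : F)⁻¹)
      have hr0 : r ≠ 0 := fun h0 => inv_ne_zero c.ne_zero (by rw [← hr, h0]; simp)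
      refine ⟨Units.mk0 r hr0, mem_isoQuad.2 fun v => ?_⟩
      rw [hsc, hc, Units.val_mk0, hr, inv_mul_cancel_left₀ c.ne_zero])
    (fun a ha => Units.ext (eq_one_of_sq (by
      have h1 := mem_isoQuad.1 ha (Pi.single (.inl ()) 1)
      rw [← mul_one (GeneralLinearGroup.scalar _ a), hsc, Units.val_one, one_mulVec] at h1
      simpa [Cfsg.quadFormOdd] using h1)))
  exact ⟨e'.trans e⟩

/-- The isometries of the even standard symmetric form centralise a transvection. -/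
lemma isoBil_evenStd_equiv (m : ℕ) {w : Fin m ⊕ Fin m → F} (hw : w ≠ 0) :
    Nonempty (↥(isoBil (Matrix.J (Fin m) F + vecMulVec (Matrix.J (Fin m) F *ᵥ w) (Matrix.J (Fin m) F *ᵥ w))) ≃*
      ↥(Subgroup.centralizer ({CfsgLib.Classical.spT w 1} : Set ↥(symplecticGroup (Fin m) F)))) := by
  set t := Matrix.J (Fin m) F *ᵥ w with ht
  set J := Matrix.J (Fin m) F with hJ
  have hJJ : ∀ v : Fin m ⊕ Fin m → F, J *ᵥ (J *ᵥ v) = v := fun v => by
    rw [mulVec_mulVec, Matrix.J_squared, neg_mulVec, one_mulVec]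
    funext i; simp [CharTwo.neg_eq]
  obtain ⟨x, hx⟩ : ∃ x, Cfsg.sympForm m F x w = 1 := by
    obtain ⟨z, hz⟩ := CfsgLib.Classical.exists_sympForm_ne_zero hw
    refine ⟨(Cfsg.sympForm m F z w)⁻¹ • z, ?_⟩
    rw [CfsgLib.Classical.sympForm_smul_left, inv_mul_cancel₀]
    rw [CfsgLib.Classical.sympForm_swap]; exact neg_ne_zero.2 hz
  have hcent : ∀ A : ↥(symplecticGroup (Fin m) F),
      A ∈ Subgroup.centralizer {CfsgLib.Classical.spT w 1} ↔ A.1 *ᵥ w = w := fun A => by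
    rw [Subgroup.mem_centralizer_singleton_iff, ← mul_inv_eq_iff_eq_mul, CfsgLib.Classical.spT_conj]
    refine ⟨fun h => ?_, fun h => by rw [h]⟩
    have h1 := congrArg (fun T : ↥(symplecticGroup (Fin m) F) => T.1 *ᵥ x) h
    simp only [CfsgLib.Classical.spT_apply, one_mul, hx, one_smul, add_right_inj] at h1
    have hy : Cfsg.sympForm m F x (A.1 *ᵥ w) ^ 2 = 1 := by
      have h2 := congrArg (fun v => Cfsg.sympForm m F x v) h1
      simp only [CfsgLib.Classical.sympForm_smul_right, hx] at h2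
      rw [sq, h2]
    rwa [eq_one_of_sq hy, one_smul] at h1
  have hkey : ∀ K : Matrix (Fin m ⊕ Fin m) (Fin m ⊕ Fin m) F, Kᵀ * (J + vecMulVec t t) * K = J + vecMulVec t t →
      Kᵀ *ᵥ t = t := fun K h => by
    funext i
    have h1 := congrFun (congrFun h i) i
    rw [Matrix.mul_add, Matrix.add_mul, mul_vecMulVec, vecMulVec_mul, ← mulVec_transpose] at h1
    have hJd : ∀ j, J j j = 0 := fun j => (isAltMat_J m).2 j
    have hKJ : (Kᵀ * J * K) i i = 0 := by
      have := (isAltMat_J (F := F) m).form_self (K *ᵥ Pi.single i 1)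
      rw [mulVec_form, mulVec_single_one, single_one_dotProduct, col_apply] at this
      exact this
    rw [Matrix.add_apply, Matrix.add_apply, hKJ, hJd, zero_add, zero_add, vecMulVec_apply, vecMulVec_apply] at h1
    rcases mul_self_eq_mul_self_iff.1 h1 with h2 | h2
    · exact h2
    · rw [h2, CharTwo.neg_eq]
  have hmem : ∀ A : ↥(Subgroup.centralizer ({CfsgLib.Classical.spT w 1} : Set ↥(symplecticGroup (Fin m) F))),
      spGL A.1 ∈ isoBil (J + vecMulVec t t) := fun A => by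
    rw [mem_isoBil, spGL_val]
    have hJ' : (A.1.1)ᵀ * J * A.1.1 = J := SymplecticGroup.mem_iff'.1 A.1.2
    have hAt : (A.1.1)ᵀ *ᵥ t = t := by
      calc (A.1.1)ᵀ *ᵥ t = (A.1.1)ᵀ *ᵥ (J *ᵥ (A.1.1 *ᵥ w)) := by rw [(hcent A.1).1 A.2]
        _ = t := by rw [mulVec_mulVec, mulVec_mulVec, hJ']
    rw [Matrix.mul_add, Matrix.add_mul, hJ', mul_vecMulVec, vecMulVec_mul, ← mulVec_transpose, hAt]
  let Φ := ((spGL (F := F) (m := m)).comp (Subgroup.subtype _)).codRestrict _ hmem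
  have hinj : Function.Injective Φ := fun A B h =>
    Subtype.ext (Subtype.ext (congrArg Units.val (congrArg Subtype.val h)))
  have hsurj : Function.Surjective Φ := by
    rintro ⟨k, hk⟩
    set K := (k : Matrix (Fin m ⊕ Fin m) (Fin m ⊕ Fin m) F)
    have hKt := hkey K hk
    have hKJ : Kᵀ * J * K = J := by
      have h1 := mem_isoBil.1 hk
      rw [Matrix.mul_add, Matrix.add_mul, mul_vecMulVec, vecMulVec_mul, ← mulVec_transpose, hKt] at h1
      exact add_right_cancel h1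
    have hKsp : K ∈ symplecticGroup (Fin m) F := SymplecticGroup.mem_iff'.2 hKJ
    have hKw : K *ᵥ w = w := by
      set Ki := ((k⁻¹ : GL (Fin m ⊕ Fin m) F) : Matrix (Fin m ⊕ Fin m) (Fin m ⊕ Fin m) F)
      have h1 : Kᵀ *ᵥ (J *ᵥ (K *ᵥ w)) = Kᵀ *ᵥ (J *ᵥ w) := by
        rw [mulVec_mulVec, mulVec_mulVec, hKJ]; exact hKt.symm
      have h2 := congrArg (fun v => Kiᵀ *ᵥ v) h1
      have hKK : Kiᵀ * Kᵀ = 1 := by
        rw [← transpose_mul, ← Units.val_mul, mul_inv_cancel, Units.val_one, transpose_one]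
      simp only [mulVec_mulVec (M := Kiᵀ) (N := Kᵀ), hKK, one_mulVec] at h2
      rw [← hJJ (K *ᵥ w), h2, hJJ]
    exact ⟨⟨⟨K, hKsp⟩, (hcent _).2 hKw⟩, Subtype.ext (Units.ext rfl)⟩
  exact ⟨(MulEquiv.ofBijective Φ ⟨hinj, hsurj⟩).symm⟩

end CharTwoModels

end CfsgLib.Forms
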