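/-
Classes of forms of even dimension: plus type, minus type, alternating.
-/
import Cfsg.Agent.Lib.KnownSimple.Forms.Models

set_option autoImplicit false

namespace CfsgLib.Forms

open Matrix

variable {F : Type*} [Field F] {ι κ : Type} [Fintype ι] [DecidableEq ι] [Fintype κ] [DecidableEq κ]

/-- An invertible matrix on another index type carrying a given form. -/
lemma exists_gl_congr (e : ι ≃ κ) {M : Matrix κ κ F} (hM : M.det ≠ 0) :
    ∃ A : GL ι F, (A : Matrix ι ι F) = M.submatrix e e ∧ Congr (A : Matrix ι ι F) M := by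
  refine ⟨GeneralLinearGroup.mkOfDetNeZero (M.submatrix e e) (by rwa [det_submatrix_equiv_self]), rfl, ?_⟩
  exact (congr_reindex e.symm M).symm

lemma Congr.symm_iff {A : Matrix ι ι F} {B : Matrix κ κ F} (h : Congr A B) (hA : Aᵀ = A) : Bᵀ = B := by
  obtain ⟨x, y, hxy, hyx, rfl⟩ := h
  rw [transpose_mul, transpose_mul, transpose_transpose, hA, Matrix.mul_assoc]

lemma FormEquiv.symm_of {A : Matrix ι ι F} {B : Matrix κ κ F} (h : FormEquiv A B) (hA : Aᵀ = A) : Bᵀ = B := by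
  obtain ⟨c, hc, h⟩ := h
  have := h.symm_iff hA
  rw [transpose_smul] at this
  exact smul_right_injective _ hc this

lemma IsAltMat.of_congr {A : Matrix ι ι F} {B : Matrix κ κ F} (h : Congr A B) (hA : IsAltMat A) : IsAltMat B := by
  obtain ⟨x, y, hxy, hyx, rfl⟩ := h
  refine ⟨by rw [transpose_mul, transpose_mul, transpose_transpose, hA.1, Matrix.neg_mul, Matrix.mul_neg, Matrix.mul_assoc], fun i => ?_⟩
  have h1 := hA.form_self (x *ᵥ Pi.single i 1)
  rw [mulVec_single_one] at h1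
  have e : (xᵀ * A * x) i i = x.col i ⬝ᵥ (A *ᵥ x.col i) := by
    rw [Matrix.mul_assoc, Matrix.mul_apply']; rfl
  rw [e, h1]

lemma IsAltMat.of_formEquiv {A : Matrix ι ι F} {B : Matrix κ κ F} (h : FormEquiv A B) (hA : IsAltMat A) :
    IsAltMat B := by
  obtain ⟨c, hc, h⟩ := h
  obtain ⟨h1, h2⟩ := IsAltMat.of_congr h hA
  rw [transpose_smul, ← smul_neg] at h1
  exact ⟨smul_right_injective _ hc h1, fun i => by simpa [hc] using h2 i⟩

lemma isAltMat_of_skew (h2 : (2 : F) ≠ 0) {A : Matrix ι ι F} (hA : Aᵀ = -A) : IsAltMat A :=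
  ⟨hA, fun i => by
    have h : A i i = - A i i := congrFun (congrFun hA i) i
    exact (mul_eq_zero.1 (by linear_combination h : (2 : F) * A i i = 0)).resolve_left h2⟩

/-- A non-zero symmetric matrix is not equivalent to a skew one in odd characteristic. -/
lemma not_formEquiv_J (h2 : (2 : F) ≠ 0) {m : ℕ} (hm : 0 < m) {A : Matrix ι ι F} (hA : Aᵀ = A) :
    ¬ FormEquiv A (Matrix.J (Fin m) F) := fun h => by
  have h1 := congrFun (congrFun (h.symm_of hA) (Sum.inl ⟨0, hm⟩)) (Sum.inr ⟨0, hm⟩)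
  simp [Matrix.J] at h1
  exact h2 (by linear_combination h1)

section FiniteOdd

variable [Finite F]

lemma isSquare_mul_of_not (h2 : (2 : F) ≠ 0) {a b : F} (ha : ¬ IsSquare a) (hb : ¬ IsSquare b) :
    IsSquare (a * b) := by
  haveI := Fintype.ofFinite F
  have hc : ringChar F ≠ 2 := fun h => h2 (by
    haveI : CharP F 2 := h ▸ ringChar.charP F
    exact CharTwo.two_eq_zero)
  have ha0 : a ≠ 0 := fun h => ha (h ▸ IsSquare.zero)
  have hb0 : b ≠ 0 := fun h => hb (h ▸ IsSquare.zero)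
  rw [FiniteField.isSquare_iff hc (mul_ne_zero ha0 hb0), mul_pow,
    (FiniteField.pow_dichotomy hc ha0).resolve_left (fun h => ha ((FiniteField.isSquare_iff hc ha0).2 h)),
    (FiniteField.pow_dichotomy hc hb0).resolve_left (fun h => hb ((FiniteField.isSquare_iff hc hb0).2 h))]
  ring

/-- The discriminant square test for the plus type. -/
lemma formEquiv_Mplus_iff (h2 : (2 : F) ≠ 0) {m : ℕ} {A : Matrix ι ι F} (hA : Aᵀ = A) (hd : A.det ≠ 0)
    (e : Fin m ⊕ Fin m ≃ ι) : FormEquiv A (Mplus m F) ↔ IsSquare ((-1) ^ m * A.det) := by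
  obtain ⟨t, ht, hp⟩ := det_Mplus (F := F) h2 m
  constructor
  · rintro ⟨c, hc, h⟩
    obtain ⟨s, hs, hd'⟩ := h.det e
    rw [det_smul, Fintype.card_sum, Fintype.card_fin, hp] at hd'
    refine ⟨c ^ m * t / s, ?_⟩
    have h1 : ((-1 : F) ^ m) ^ 2 = 1 := by rw [← pow_mul, mul_comm, pow_mul, neg_one_sq, one_pow]
    field_simp
    linear_combination (-(-1 : F) ^ m) * hd' + (c ^ (m + m) * t ^ 2) * h1
  · rintro ⟨r, hr⟩
    have hr0 : r ≠ 0 := fun h0 => hd (by simpa [h0] using hr)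
    refine Congr.formEquiv (congr_of_det h2 hA (Mplus_symm m) e hd
      (div_ne_zero (mul_ne_zero hr0 ht) hd) ?_)
    rw [hp]
    field_simp
    linear_combination hr

/-- The discriminant test for the minus type. -/
lemma formEquiv_Mminus_iff (h2 : (2 : F) ≠ 0) {m : ℕ} {a b : F} (hab : ¬ IsSquare (a ^ 2 - 4 * b))
    {A : Matrix ι ι F} (hA : Aᵀ = A) (hd : A.det ≠ 0)
    (e : (Fin m ⊕ Fin m) ⊕ Fin 2 ≃ ι) :
    FormEquiv A (Mminus m a b) ↔ ¬ IsSquare ((-1) ^ (m + 1) * A.det) := by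
  obtain ⟨t, ht, hp⟩ := det_Mminus (F := F) h2 m a b
  have hD : a ^ 2 - 4 * b ≠ 0 := fun h => hab (h ▸ IsSquare.zero)
  constructor
  · rintro ⟨c, hc, h⟩ ⟨r, hr⟩
    obtain ⟨s, hs, hd'⟩ := h.det e
    rw [det_smul, Fintype.card_sum, Fintype.card_sum, Fintype.card_fin, Fintype.card_fin, hp] at hd'
    refine hab ⟨s * r / (c ^ (m + 1) * t), ?_⟩
    have h1 : ((-1 : F) ^ (m + 1)) ^ 2 = 1 := by rw [← pow_mul, mul_comm, pow_mul, neg_one_sq, one_pow]
    field_simp
    linear_combination ((-1 : F) ^ (m + 1)) * hd' + s ^ 2 * hr - ((a ^ 2 - 4 * b) * c ^ (m + m + 2) * t ^ 2) * h1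
  · intro h
    obtain ⟨r, hr⟩ := isSquare_mul_of_not h2 hab h
    have hr0 : r ≠ 0 := fun h0 => by
      rw [h0, mul_zero] at hr
      exact mul_ne_zero hD (mul_ne_zero (pow_ne_zero _ (by simp)) hd) hr
    refine Congr.formEquiv (congr_of_det h2 hA (Mminus_symm m a b) e hd
      (div_ne_zero (mul_ne_zero hr0 ht) hd) ?_)
    rw [hp]
    field_simp
    linear_combination hr

omit [Finite F] in
lemma Mminus_det_ne_zero (h2 : (2 : F) ≠ 0) (m : ℕ) {a b : F} (hab : ¬ IsSquare (a ^ 2 - 4 * b)) :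
    (Mminus m a b).det ≠ 0 := by
  obtain ⟨t, ht, hp⟩ := det_Mminus (F := F) h2 m a b
  rw [hp]
  exact mul_ne_zero (pow_ne_zero _ ht) (mul_ne_zero (pow_ne_zero _ (by simp)) fun h => hab (h ▸ IsSquare.zero))

/-- An anisotropic binary form. -/
lemma exists_anisotropic (h2 : (2 : F) ≠ 0) : ∃ a b : F,
    ∀ z₁ z₂ : F, z₁ ^ 2 + a * z₁ * z₂ + b * z₂ ^ 2 = 0 → z₁ = 0 ∧ z₂ = 0 := by
  have hc : ringChar F ≠ 2 := fun h => h2 (by
    haveI : CharP F 2 := h ▸ ringChar.charP F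
    exact CharTwo.two_eq_zero)
  obtain ⟨ν, hν⟩ := FiniteField.exists_nonsquare hc
  refine ⟨0, -ν, fun z₁ z₂ h => ?_⟩
  rcases eq_or_ne z₂ 0 with rfl | hz
  · simpa using h
  · exact absurd ⟨z₁ / z₂, by field_simp; linear_combination -h⟩ hν

end FiniteOdd

end CfsgLib.Forms
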