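/-
Orthogonal similitude groups are smaller than symplectic similitude groups.
-/
import Cfsg.Agent.Lib.KnownSimple.Forms.Even
import Cfsg.Agent.Lib.Classical.SpOrder

set_option autoImplicit false

namespace CfsgLib.Forms

open Matrix

variable {F : Type*} [Field F] {ι κ : Type} [Fintype ι] [DecidableEq ι] [Fintype κ] [DecidableEq κ]

lemma FormEquiv.card_simBil {A : Matrix ι ι F} {B : Matrix κ κ F} (h : FormEquiv A B) :
    Nat.card (simBil A) = Nat.card (simBil B) := by
  obtain ⟨c, hc, x, y, hxy, hyx, hB⟩ := h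
  refine Nat.card_congr ((congrGL x y hxy hyx).toEquiv.subtypeEquiv fun u => ?_)
  exact (congrGL_mem_simBil_iff hxy hyx hc hB u).symm

variable [Fintype F]

lemma card_projQuot_mul [Nonempty ι] {A : Matrix ι ι F} :
    Nat.card (Cfsg.projQuot (simBil A)) * (Fintype.card F - 1) = Nat.card (simBil A) := by
  classical
  have hle : Cfsg.Geo.scalars ι F ≤ simBil A := by
    rintro _ ⟨c, rfl⟩
    refine mem_simBil.2 ⟨c * c, ?_⟩
    show (Matrix.scalar ι (c : F))ᵀ * A * Matrix.scalar ι (c : F) = _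
    simp [← smul_eq_diagonal_mul, ← smul_eq_mul_diagonal, smul_smul]
  have h := Subgroup.card_eq_card_quotient_mul_card_subgroup ((Cfsg.Geo.scalars ι F).subgroupOf (simBil A))
  rw [h, Nat.card_congr (Subgroup.subgroupOfEquivOfLe hle).toEquiv]
  congr 1
  have hinj : Function.Injective (Units.map (Matrix.scalar ι : F →+* Matrix ι ι F).toMonoidHom) := fun a b h => by
    have := congrArg Units.val h
    exact Units.ext (Matrix.scalar_inj.1 this)
  rw [Cfsg.Geo.scalars, ← Nat.card_congr (MonoidHom.ofInjective hinj).toEquiv, Nat.card_units,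
    Nat.card_eq_fintype_card]

lemma card_simBil_le (A : Matrix ι ι F) :
    Nat.card (simBil A) ≤ (Fintype.card F - 1) * Nat.card (isoBil A) := by
  classical
  rw [← Nat.card_eq_fintype_card (α := F), ← Nat.card_units, ← Nat.card_prod]
  choose c hc using fun k : simBil A => mem_simBil.1 k.2
  let rep : Fˣ → simBil A := fun d => if h : ∃ k, c k = d then h.choose else 1
  have hrep : ∀ k, c (rep (c k)) = c k := fun k => by
    have h : ∃ k', c k' = c k := ⟨k, rfl⟩
    simp only [rep, dif_pos h]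
    exact h.choose_spec
  have hiso : ∀ k, ((rep (c k))⁻¹ * k : simBil A).1 ∈ isoBil A := fun k => by
    set r := rep (c k)
    have h1 := hc r
    rw [hrep] at h1
    set R := ((r.1 : GL ι F) : Matrix ι ι F)
    set R' := ((r.1⁻¹ : GL ι F) : Matrix ι ι F)
    have hRR : R * R' = 1 := by rw [← Units.val_mul, mul_inv_cancel, Units.val_one]
    have h2 : (c k : F) • (R'ᵀ * A * R') = A := by
      calc (c k : F) • (R'ᵀ * A * R') = R'ᵀ * (Rᵀ * A * R) * R' := by rw [h1, Matrix.mul_smul, Matrix.smul_mul]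
        _ = (R * R')ᵀ * A * (R * R') := by rw [transpose_mul]; simp only [Matrix.mul_assoc]
        _ = A := by simp [hRR]
    rw [mem_isoBil]
    show (R' * (k.1 : Matrix ι ι F))ᵀ * A * (R' * (k.1 : Matrix ι ι F)) = A
    calc _ = (k.1 : Matrix ι ι F)ᵀ * (R'ᵀ * A * R') * (k.1 : Matrix ι ι F) := by
          rw [transpose_mul]; simp only [Matrix.mul_assoc]
      _ = A := by
          have h3 : R'ᵀ * A * R' = (c k : F)⁻¹ • A := by
            conv_rhs => rw [← h2, smul_smul, inv_mul_cancel₀ (c k).ne_zero, one_smul]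
          rw [h3, Matrix.mul_smul, Matrix.smul_mul, hc k, smul_smul, inv_mul_cancel₀ (c k).ne_zero, one_smul]
  refine Nat.card_le_card_of_injective (fun k => (c k, (⟨_, hiso k⟩ : isoBil A))) fun k l h => ?_
  obtain ⟨h1, h2⟩ := Prod.ext_iff.1 h
  have h3 := congrArg Subtype.val h2
  simp only at h1 h3
  rw [h1] at h3
  exact mul_left_cancel (Subtype.ext h3)

/-- The multiplier-`c` similitude `diag(1, c)`. -/
def simD (m : ℕ) (c : Fˣ) : GL (Fin m ⊕ Fin m) F :=
  ⟨fromBlocks 1 0 0 ((c : F) • 1), fromBlocks 1 0 0 (((c⁻¹ : Fˣ) : F) • 1),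
    by rw [fromBlocks_multiply]; simp [smul_smul], by rw [fromBlocks_multiply]; simp [smul_smul]⟩

omit [Fintype F] in
lemma simD_form (m : ℕ) (c : Fˣ) :
    (simD (F := F) m c : Matrix (Fin m ⊕ Fin m) (Fin m ⊕ Fin m) F)ᵀ * Matrix.J (Fin m) F *
      (simD (F := F) m c : Matrix (Fin m ⊕ Fin m) (Fin m ⊕ Fin m) F) = (c : F) • Matrix.J (Fin m) F := by
  simp [simD, Matrix.J, fromBlocks_transpose, fromBlocks_multiply, fromBlocks_smul]

lemma card_GSp_ge {m : ℕ} (hm : 0 < m) :
    (Fintype.card F - 1) * Nat.card (symplecticGroup (Fin m) F) ≤ Nat.card (simBil (Matrix.J (Fin m) F)) := by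
  classical
  rw [← Nat.card_eq_fintype_card (α := F), ← Nat.card_units, ← Nat.card_prod]
  have hsp : ∀ (c : Fˣ) (A : symplecticGroup (Fin m) F), (simD m c * spGL A)⁻¹⁻¹ ∈ simBil (Matrix.J (Fin m) F) := by
    intro c A
    rw [inv_inv, mem_simBil]
    refine ⟨c, ?_⟩
    rw [Units.val_mul, spGL_val, transpose_mul]
    calc _ = A.1ᵀ * ((simD (F := F) m c : Matrix (Fin m ⊕ Fin m) (Fin m ⊕ Fin m) F)ᵀ * Matrix.J (Fin m) F *
          (simD (F := F) m c : Matrix (Fin m ⊕ Fin m) (Fin m ⊕ Fin m) F)) * A.1 := by simp only [Matrix.mul_assoc]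
      _ = _ := by rw [simD_form, Matrix.mul_smul, Matrix.smul_mul, SymplecticGroup.mem_iff'.1 A.2]
  refine Nat.card_le_card_of_injective (fun p => (⟨_, hsp p.1 p.2⟩ : simBil (Matrix.J (Fin m) F))) fun p q h => ?_
  have h1 : simD m p.1 * spGL p.2 = simD m q.1 * spGL q.2 := by simpa using congrArg Subtype.val h
  have hform : ∀ (c : Fˣ) (A : symplecticGroup (Fin m) F),
      ((simD m c * spGL A : GL (Fin m ⊕ Fin m) F) : Matrix (Fin m ⊕ Fin m) (Fin m ⊕ Fin m) F)ᵀ * Matrix.J (Fin m) F *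
        ((simD m c * spGL A : GL (Fin m ⊕ Fin m) F) : Matrix (Fin m ⊕ Fin m) (Fin m ⊕ Fin m) F) = (c : F) • Matrix.J (Fin m) F := by
    intro c A
    rw [Units.val_mul, spGL_val, transpose_mul]
    calc _ = A.1ᵀ * ((simD (F := F) m c : Matrix (Fin m ⊕ Fin m) (Fin m ⊕ Fin m) F)ᵀ * Matrix.J (Fin m) F *
          (simD (F := F) m c : Matrix (Fin m ⊕ Fin m) (Fin m ⊕ Fin m) F)) * A.1 := by simp only [Matrix.mul_assoc]
      _ = _ := by rw [simD_form, Matrix.mul_smul, Matrix.smul_mul, SymplecticGroup.mem_iff'.1 A.2]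
  have h2 : (p.1 : F) • Matrix.J (Fin m) F = (q.1 : F) • Matrix.J (Fin m) F := by rw [← hform, h1, hform]
  have h3 : p.1 = q.1 := by
    have := congrFun (congrFun h2 (Sum.inr ⟨0, hm⟩)) (Sum.inl ⟨0, hm⟩)
    exact Units.ext (by simpa [Matrix.J] using this)
  refine Prod.ext h3 ?_
  rw [h3] at h1
  exact Subtype.ext (congrArg Units.val (mul_left_cancel h1))

/-! ### A bound on the orthogonal group of a diagonal form -/

section Diag

variable {n : ℕ}

/-- Isometries of a diagonal form fixing the first `k` basis vectors. -/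
def diagStab (d : Fin n → F) (k : ℕ) : Subgroup (GL (Fin n) F) where
  carrier := {g | g ∈ isoBil (Matrix.diagonal d) ∧
    ∀ i : Fin n, (i : ℕ) < k → (g : Matrix (Fin n) (Fin n) F) *ᵥ Pi.single i 1 = Pi.single i 1}
  one_mem' := ⟨one_mem _, fun i _ => by rw [Units.val_one, one_mulVec]⟩
  mul_mem' {a b} ha hb := ⟨mul_mem ha.1 hb.1, fun i hi => by
    rw [Units.val_mul, ← mulVec_mulVec, hb.2 i hi, ha.2 i hi]⟩
  inv_mem' {a} ha := ⟨inv_mem ha.1, fun i hi => by
    conv_lhs => rw [← ha.2 i hi, mulVec_mulVec, ← Units.val_mul, inv_mul_cancel, Units.val_one, one_mulVec]⟩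

lemma card_diagStab_succ {d : Fin n → F} (hd : ∀ i, d i ≠ 0) {k : ℕ} (hk : k < n) :
    Nat.card (diagStab d k) ≤ 2 * Fintype.card F ^ (n - 1 - k) * Nat.card (diagStab d (k + 1)) := by
  classical
  set z : Fin n := ⟨k, hk⟩
  let col : diagStab d k → (Fin n → F) := fun g => (g.1 : Matrix (Fin n) (Fin n) F) *ᵥ Pi.single z 1
  let S := {v : Fin n → F // ∃ g, col g = v}
  choose ρ hρ using fun v : S => v.2
  have h1 : Nat.card (diagStab d k) ≤ Nat.card S * Nat.card (diagStab d (k + 1)) := by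
    rw [← Nat.card_prod]
    have hmem : ∀ g : diagStab d k, ((ρ ⟨col g, g, rfl⟩)⁻¹ * g : diagStab d k).1 ∈ diagStab d (k + 1) := fun g => by
      refine ⟨((ρ ⟨col g, g, rfl⟩)⁻¹ * g : diagStab d k).2.1, fun i hi => ?_⟩
      rcases Nat.lt_succ_iff_lt_or_eq.1 hi with h | h
      · exact ((ρ ⟨col g, g, rfl⟩)⁻¹ * g : diagStab d k).2.2 i h
      · obtain rfl : i = z := Fin.ext h
        have e : (((ρ ⟨col g, g, rfl⟩) : diagStab d k).1 : Matrix (Fin n) (Fin n) F) *ᵥ Pi.single z 1 =
            (g.1 : Matrix (Fin n) (Fin n) F) *ᵥ Pi.single z 1 := hρ ⟨col g, g, rfl⟩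
        rw [Subgroup.coe_mul, Subgroup.coe_inv, Units.val_mul, ← mulVec_mulVec, ← e, mulVec_mulVec,
          ← Units.val_mul, inv_mul_cancel, Units.val_one, one_mulVec]
    refine Nat.card_le_card_of_injective (fun g => ((⟨col g, g, rfl⟩ : S), (⟨_, hmem g⟩ : diagStab d (k + 1)))) fun g g' h => ?_
    obtain ⟨e1, e2⟩ := Prod.ext_iff.1 h
    have e3 := congrArg Subtype.val e2
    simp only at e1 e3
    rw [e1] at e3
    exact mul_left_cancel (Subtype.ext e3)
  refine h1.trans (Nat.mul_le_mul_right _ ?_)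
  have hprop : ∀ v : S, (∀ i : Fin n, i < z → v.1 i = 0) ∧ ∑ i, d i * v.1 i ^ 2 = d z := by
    rintro ⟨v, g, rfl⟩
    constructor
    · intro i hi
      have h := form_of_mem_isoBil g.2.1 (Pi.single i 1) (Pi.single z 1)
      rw [g.2.2 i hi] at h
      simp only [mulVec_diagonal, single_one_dotProduct, Pi.single_eq_of_ne (ne_of_lt hi), mul_zero] at h
      exact (mul_eq_zero.1 h).resolve_left (hd i)
    · have h := form_of_mem_isoBil g.2.1 (Pi.single z 1) (Pi.single z 1)
      rw [single_one_dotProduct, mulVec_diagonal, Pi.single_eq_same, mul_one] at h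
      rw [← h, dotProduct]
      exact Finset.sum_congr rfl fun i _ => by rw [mulVec_diagonal]; ring
  have hsplit : ∀ v : S, d z * v.1 z ^ 2 = d z - ∑ i : {i // z < i}, d i * v.1 i ^ 2 := fun v => by
    obtain ⟨h0, h2⟩ := hprop v
    have e : ∑ i : {i // z < i}, d i * v.1 i ^ 2 = ∑ i ∈ Finset.univ.erase z, d i * v.1 i ^ 2 := by
      rw [← Finset.sum_subtype (Finset.univ.filter fun i => z < i) (fun x => by simp) (fun i => d i * v.1 i ^ 2)]
      refine Finset.sum_subset (fun i hi => ?_) fun i hi hi' => ?_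
      · exact Finset.mem_erase.2 ⟨ne_of_gt (Finset.mem_filter.1 hi).2, Finset.mem_univ i⟩
      · have : i < z := lt_of_le_of_ne (not_lt.1 fun h => hi' (Finset.mem_filter.2 ⟨Finset.mem_univ i, h⟩))
          (Finset.mem_erase.1 hi).1
        rw [h0 i this]; ring
    rw [e, eq_sub_iff_add_eq]
    exact (Finset.add_sum_erase Finset.univ (fun i => d i * v.1 i ^ 2) (Finset.mem_univ z)).trans h2
  let root : ({i // z < i} → F) → F := fun t => Classical.epsilon fun r => d z * r ^ 2 = d z - ∑ i : {i // z < i}, d i * t i ^ 2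
  have hinj : Function.Injective (fun v : S => ((fun i : {i // z < i} => v.1 i), decide (v.1 z = root (fun i => v.1 i)))) := by
    intro v w h
    obtain ⟨ht, hb⟩ := Prod.ext_iff.1 h
    simp only at ht hb
    have hr : ∀ u : S, u.1 z = root (fun i => u.1 i) ∨ u.1 z = - root (fun i => u.1 i) := fun u => by
      have hs := Classical.epsilon_spec (p := fun r => d z * r ^ 2 = d z - ∑ i : {i // z < i}, d i * u.1 i ^ 2) ⟨_, hsplit u⟩
      exact sq_eq_sq_iff_eq_or_eq_neg.1 (mul_left_cancel₀ (hd z) ((hsplit u).trans hs.symm))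
    refine Subtype.ext (funext fun i => ?_)
    rcases lt_trichotomy i z with hi | rfl | hi
    · rw [(hprop v).1 i hi, (hprop w).1 i hi]
    · by_cases hv : v.1 z = root (fun i => v.1 i)
      · rw [decide_eq_true hv, eq_comm, decide_eq_true_iff] at hb
        rw [hv, hb, ht]
      · rw [decide_eq_false hv, eq_comm, decide_eq_false_iff_not] at hb
        rw [(hr v).resolve_left hv, (hr w).resolve_left hb, ht]
    · exact congrFun ht ⟨i, hi⟩
  refine (Nat.card_le_card_of_injective _ hinj).trans (le_of_eq ?_)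
  rw [Nat.card_prod, Nat.card_fun, Nat.card_eq_fintype_card (α := Bool), Fintype.card_bool,
    Nat.card_eq_fintype_card (α := F), Nat.card_eq_fintype_card, Fintype.card_subtype,
    show (Finset.univ.filter fun i => z < i) = Finset.Ioi z by ext i; simp, Fin.card_Ioi, mul_comm]

lemma card_isoBil_diagonal {d : Fin n → F} (hd : ∀ i, d i ≠ 0) :
    Nat.card (isoBil (Matrix.diagonal d)) ≤ 2 ^ n * Fintype.card F ^ (∑ i ∈ Finset.range n, i) := by
  have key : ∀ j, j ≤ n → Nat.card (diagStab d (n - j)) ≤ 2 ^ j * Fintype.card F ^ (∑ i ∈ Finset.range j, i) := by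
    intro j hj
    induction j with
    | zero =>
      rw [Nat.sub_zero]
      have : Subsingleton (diagStab d n) := ⟨fun a b => Subtype.ext (Units.ext (Matrix.ext_of_mulVec_single fun i => by
        rw [a.2.2 i i.2, b.2.2 i i.2]))⟩
      simp
    | succ j ih =>
      refine (card_diagStab_succ hd (k := n - (j + 1)) (by omega)).trans ?_
      rw [show n - (j + 1) + 1 = n - j by omega, show n - 1 - (n - (j + 1)) = j by omega]
      refine (Nat.mul_le_mul_left _ (ih (by omega))).trans (le_of_eq ?_)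
      rw [Finset.sum_range_succ, pow_succ, pow_add]
      ring
  have h := key n le_rfl
  rw [Nat.sub_self] at h
  refine le_trans (le_of_eq (Nat.card_congr (Equiv.subtypeEquivRight fun g => ?_))) h
  exact ⟨fun hg => ⟨hg, fun i hi => absurd hi (Nat.not_lt_zero _)⟩, fun hg => hg.1⟩

end Diag

/-- Symmetric forms have smaller projective similitude groups than alternating ones. -/
lemma not_projQuot_equiv_PGSp (h2 : (2 : F) ≠ 0) {m : ℕ} (hm : 0 < m) {A : Matrix (Fin (2 * m)) (Fin (2 * m)) F}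
    (hA : Aᵀ = A) (hd : A.det ≠ 0) :
    ¬ Nonempty (Cfsg.projQuot (simBil A) ≃* Cfsg.PGSp m F) := by
  rintro ⟨e⟩
  haveI : Nonempty (Fin (2 * m)) := ⟨⟨0, by omega⟩⟩
  haveI : Nonempty (Fin m ⊕ Fin m) := ⟨Sum.inl ⟨0, hm⟩⟩
  obtain ⟨d, hcd⟩ := exists_congr_diagonal h2 hA
  have hdd : ∀ i, d i ≠ 0 := fun i h => hcd.det_ne_zero (Equiv.refl _) hd (by
    rw [det_diagonal]; exact Finset.prod_eq_zero (Finset.mem_univ i) h)
  have heq : Nat.card (simBil (Matrix.diagonal d)) = Nat.card (simBil (Matrix.J (Fin m) F)) := by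
    rw [← hcd.formEquiv.card_simBil, ← card_projQuot_mul, ← card_projQuot_mul, Nat.card_congr e.toEquiv]
    rfl
  set q := Fintype.card F with hqdef
  have hq : 3 ≤ q := by
    by_contra hq
    have h1 : 1 < q := Fintype.one_lt_card
    have h3 : Fintype.card F = 2 := by omega
    exact h2 (by
      haveI := (FiniteField.even_card_iff_char_two (F := F)).2 (by omega)
      haveI : CharP F 2 := this ▸ ringChar.charP F
      exact CharTwo.two_eq_zero)
  have hup : Nat.card (simBil (Matrix.diagonal d)) ≤ (q - 1) * (2 ^ (2 * m) * q ^ (∑ i ∈ Finset.range (2 * m), i)) :=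
    (card_simBil_le _).trans (Nat.mul_le_mul_left _ (card_isoBil_diagonal hdd))
  have hlow := card_GSp_ge (F := F) hm
  rw [← heq, CfsgLib.Classical.card_sp] at hlow
  have h3 : 2 ^ m * ((q : ℕ) ^ m ^ 2 * ∏ i ∈ Finset.range m, (q ^ (2 * (i + 1)) - 1)) ≥ q ^ (2 * m ^ 2 + m) := by
    have hp : ∀ k, q ^ (k * (k + 1)) ≤ 2 ^ k * ∏ i ∈ Finset.range k, (q ^ (2 * (i + 1)) - 1) := by
      intro k
      induction k with
      | zero => simp
      | succ k ih =>
        rw [Finset.prod_range_succ, pow_succ 2 k, show (k + 1) * (k + 1 + 1) = k * (k + 1) + 2 * (k + 1) by ring, pow_add]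
        have h4 : 2 ≤ q ^ (2 * (k + 1)) := le_trans (by omega) (Nat.le_self_pow (by omega) q)
        calc q ^ (k * (k + 1)) * q ^ (2 * (k + 1))
            ≤ (2 ^ k * ∏ i ∈ Finset.range k, (q ^ (2 * (i + 1)) - 1)) * (2 * (q ^ (2 * (k + 1)) - 1)) :=
              Nat.mul_le_mul ih (by omega)
          _ = _ := by ring
    calc q ^ (2 * m ^ 2 + m) = q ^ (m ^ 2) * q ^ (m * (m + 1)) := by rw [← pow_add]; congr 1; ring
      _ ≤ q ^ (m ^ 2) * (2 ^ m * ∏ i ∈ Finset.range m, (q ^ (2 * (i + 1)) - 1)) := Nat.mul_le_mul_left _ (hp m)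
      _ = _ := by ring
  have hS : (∑ i ∈ Finset.range (2 * m), i) + 2 * m = 2 * m ^ 2 + m := by
    have := Finset.sum_range_id_mul_two (2 * m)
    have hm2 : (2 * m) * (2 * m - 1) + 2 * m = 4 * m ^ 2 := by
      rw [Nat.mul_sub, mul_one, Nat.sub_add_cancel (Nat.le_mul_self _)]
      ring
    nlinarith
  have h8 : 2 ^ m * 2 ^ (2 * m) < q ^ (2 * m) := by
    rw [← pow_add, show m + 2 * m = 3 * m by ring, pow_mul, pow_mul]
    exact lt_of_lt_of_le (Nat.pow_lt_pow_left (show 2 ^ 3 < 9 by norm_num) hm.ne')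
      (Nat.pow_le_pow_left (by nlinarith : 9 ≤ q ^ 2) m)
  have h5 : q ^ m ^ 2 * ∏ i ∈ Finset.range m, (q ^ (2 * (i + 1)) - 1) ≤ 2 ^ (2 * m) * q ^ (∑ i ∈ Finset.range (2 * m), i) :=
    Nat.le_of_mul_le_mul_left (hlow.trans hup) (by omega)
  have h6 : q ^ (2 * m ^ 2 + m) ≤ 2 ^ m * 2 ^ (2 * m) * q ^ (∑ i ∈ Finset.range (2 * m), i) := by
    rw [mul_assoc]
    exact h3.trans (Nat.mul_le_mul_left _ h5)
  rw [← hS, pow_add, mul_comm] at h6
  exact absurd (Nat.le_of_mul_le_mul_right h6 (pow_pos (by omega) _)) (not_le.2 h8)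

end CfsgLib.Forms
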